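import Cfsg.Agent.Components.Timmesfeld.QuadAlgebra

/-!
A group `K` commuting with its conjugate by an involution `a`, in a representation in characteristic two
with no proper invariant subspace: the underlying space is a ring.
-/

namespace Cfsg.Lib.Components.Timmesfeld

open Subgroup

variable {G : Type*} [Group G] [Finite G] {V : Type*} [AddCommGroup V] [Finite V]

theorem phi_mul (φ : G →* AddMonoid.End V) (g h : G) (v : V) : φ (g * h) v = φ g (φ h v) := by
  rw [map_mul]; rfl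

theorem phi_one (φ : G →* AddMonoid.End V) (v : V) : φ 1 v = v := by
  rw [map_one]; rfl

theorem phi_inv_apply (φ : G →* AddMonoid.End V) (g : G) (v : V) : φ g⁻¹ (φ g v) = v := by
  rw [← phi_mul, inv_mul_cancel, phi_one]

/-- invariance under generators is invariance -/
theorem inv_of_gen (φ : G →* AddMonoid.End V) {T : Set G} (hT : closure T = ⊤) (W : AddSubgroup V)
    (h : ∀ g ∈ T, ∀ v ∈ W, φ g v ∈ W) (g : G) : ∀ v ∈ W, φ g v ∈ W := by
  have hg : g ∈ closure T := hT ▸ mem_top g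
  induction hg using closure_induction with
  | mem x hx => exact h x hx
  | one => intro v hv; rwa [phi_one]
  | mul x y _ _ ihx ihy => intro v hv; rw [phi_mul]; exact ihx _ (ihy v hv)
  | inv x _ ih =>
    intro v hv
    have hinj : Function.Injective (fun w : W => (⟨φ x w, ih w w.2⟩ : W)) := by
      intro a b hab
      have := congrArg (fun z : W => φ x⁻¹ (z : V)) hab
      simp only [phi_inv_apply] at this
      exact Subtype.ext this
    obtain ⟨w, hw⟩ := Finite.surjective_of_injective hinj ⟨v, hv⟩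
    have : φ x w = v := congrArg Subtype.val hw
    rw [← this, phi_inv_apply]
    exact w.2

/-- the traces `(a + 1) V` -/
def trRange (φ : G →* AddMonoid.End V) (a : G) : AddSubgroup V :=
  AddMonoidHom.range ((show V →+ V from φ a) + AddMonoidHom.id V)

theorem mem_trRange {φ : G →* AddMonoid.End V} {a : G} {v : V} :
    v ∈ trRange φ a ↔ ∃ w, φ a w + w = v := Iff.rfl

theorem bridge (h2 : ∀ v : V, v + v = 0) (φ : G →* AddMonoid.End V) (K : Subgroup G) (a : G)
    (B : Subgroup G) (ha : a * a = 1) (hgen : closure ((K : Set G) ∪ B ∪ {a}) = ⊤)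
    (hirr : ∀ W : AddSubgroup V, (∀ g, ∀ v ∈ W, φ g v ∈ W) → (∃ v ∈ W, v ≠ 0) → W = ⊤)
    (hKa : ∀ x ∈ K, ∀ y ∈ K, x * (a * y * a) = a * y * a * x)
    (hBK : ∀ b ∈ B, ∀ k ∈ K, b * k * b⁻¹ ∈ K) (hBa : ∀ b ∈ B, b * a = a * b)
    (hB2 : ∀ b ∈ B, b * b = 1) (hBc : ∀ b ∈ B, ∀ c ∈ B, b * c = c * b)
    (hIB : ∀ b ∈ B, ∀ v, φ b (φ a v + v) = φ a v + v)
    (hD : ∀ k ∈ K, ∀ v, φ (k * (a * k * a)) (φ a v + v) = φ a v + v)
    (hne : ∃ v, φ a v + v ≠ 0) (hnc : ∃ x ∈ K, ∃ y ∈ K, φ x * φ y ≠ φ y * φ x) :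
    Nat.card (Set.range fun b : B => φ (b : G)) ≤ Nat.card (trRange φ a) ∧
    ((∀ b ∈ B, ∀ k ∈ K, φ (b * k * b⁻¹) = φ k) ∨
      Nat.card (trRange φ a) * Nat.card (trRange φ a) * Nat.card {v : V // ∀ b ∈ B, φ b v = v}
        ≤ Nat.card V) ∧
    (∀ b ∈ B, ∀ k ∈ K, φ k * φ (b * k * b⁻¹) = φ (b * k * b⁻¹) * φ k → ∀ m ∈ K,
      (φ (b * k * b⁻¹) + φ k) * φ m = φ m * (φ (b * k * b⁻¹) + φ k)) ∧
    (Nat.card (trRange φ a) ≤ 2 → ∀ k ∈ K, φ k * φ k = 1 ∨ φ k * φ k * φ k = 1) := by
  classical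
  obtain ⟨v0, hv0⟩ := hne
  set i := φ a v0 + v0 with hi
  have hbinv : ∀ b ∈ B, b⁻¹ = b := fun b hb => inv_eq_of_mul_eq_one_left (hB2 b hb)
  have hai : φ a i = i := by
    rw [hi, map_add, ← phi_mul, ha, phi_one, add_comm]
  have hbi : ∀ b ∈ B, φ b i = i := fun b hb => hIB b hb v0
  have hflip : ∀ k ∈ K, ∀ j ∈ trRange φ a, φ k j = φ (a * k⁻¹ * a) j := by
    intro k hk j hj
    obtain ⟨w, rfl⟩ := mem_trRange.1 hj
    have h := hD k⁻¹ (K.inv_mem hk) w
    rw [phi_mul] at h
    have := congrArg (φ k) h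
    rw [← phi_mul, mul_inv_cancel, phi_one] at this
    exact this.symm
  have hiI : i ∈ trRange φ a := mem_trRange.2 ⟨v0, rfl⟩
  set S : Subring (AddMonoid.End V) := Subring.closure (φ '' (K : Set G)) with hS
  have hKS : ∀ k ∈ K, φ k ∈ S := fun k hk => Subring.subset_closure ⟨k, hk, rfl⟩
  have hcomS : ∀ r ∈ S, ∀ y ∈ K, r * φ (a * y * a) = φ (a * y * a) * r := by
    intro r hr y hy
    induction hr using Subring.closure_induction with
    | mem x hx =>
      obtain ⟨k, hk, rfl⟩ := hx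
      rw [← map_mul, ← map_mul, hKa k hk y hy]
    | zero => rw [zero_mul, mul_zero]
    | one => rw [one_mul, mul_one]
    | add x y _ _ hx hy => rw [add_mul, mul_add, hx, hy]
    | neg x _ hx => rw [neg_mul, mul_neg, hx]
    | mul x y _ _ hx hy => rw [mul_assoc, hy, ← mul_assoc, hx, mul_assoc]
  have hcomA : ∀ r ∈ S, ∀ y ∈ K, ∀ v, r (φ (a * y * a) v) = φ (a * y * a) (r v) := fun r hr y hy v =>
    congrArg (fun f : AddMonoid.End V => f v) (hcomS r hr y hy)
  have hker : ∀ s ∈ S, ∀ r ∈ S, r i = 0 → r (s i) = 0 := by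
    intro s hs
    induction hs using Subring.closure_induction with
    | mem x hx =>
      obtain ⟨k, hk, rfl⟩ := hx
      intro r hr hri
      rw [hflip k hk i hiI, hcomA r hr _ (K.inv_mem hk), hri, map_zero]
    | zero => intro r _ _; exact map_zero r
    | one => intro r _ h; exact h
    | add x y _ _ hx hy =>
      intro r hr h
      show r (x i + y i) = 0
      rw [map_add, hx r hr h, hy r hr h, add_zero]
    | neg x _ hx =>
      intro r hr h
      show r (- x i) = 0
      rw [map_neg, hx r hr h, neg_zero]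
    | mul x y hxS _ hx hy =>
      intro r hr h
      exact hy (r * x) (S.mul_mem hr hxS) (hx r hr h)
  have haS : ∀ r ∈ S, ∀ s ∈ S, (∃ t ∈ S, φ a (s i) = t i) → ∃ t ∈ S, φ a (r (s i)) = t i := by
    intro r hr
    induction hr using Subring.closure_induction with
    | mem x hx =>
      obtain ⟨k, hk, rfl⟩ := hx
      rintro s hs ⟨t, ht, hst⟩
      refine ⟨t * φ k⁻¹, S.mul_mem ht (hKS _ (K.inv_mem hk)), ?_⟩
      rw [show φ a (φ k (s i)) = φ (a * k * a) (φ a (s i)) by
        rw [← phi_mul, ← phi_mul, mul_assoc _ a a, ha, mul_one], hst, ← hcomA t ht k hk]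
      have h' := hflip k⁻¹ (K.inv_mem hk) i hiI
      rw [inv_inv] at h'
      exact congrArg t h'.symm
    | zero =>
      intro s _ _
      exact ⟨0, S.zero_mem, by show φ a 0 = 0; exact map_zero _⟩
    | one => intro s _ h; exact h
    | add x y _ _ hx hy =>
      intro s hs h
      obtain ⟨t, ht, e1⟩ := hx s hs h
      obtain ⟨t', ht', e2⟩ := hy s hs h
      exact ⟨t + t', S.add_mem ht ht', by show φ a (x (s i) + y (s i)) = t i + t' i; rw [map_add, e1, e2]⟩
    | neg x _ hx =>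
      intro s hs h
      obtain ⟨t, ht, e1⟩ := hx s hs h
      exact ⟨-t, S.neg_mem ht, by show φ a (- x (s i)) = - t i; rw [map_neg, e1]⟩
    | mul x y _ hyS hx hy =>
      intro s hs h
      exact hx (y * s) (S.mul_mem hyS hs) (hy s hs h)
  have hconj : ∀ b ∈ B, ∀ r ∈ S, φ b * r * φ b ∈ S := by
    intro b hb r hr
    have h1 : φ b * φ b = 1 := by rw [← map_mul, hB2 b hb, map_one]
    induction hr using Subring.closure_induction with
    | mem x hx =>
      obtain ⟨k, hk, rfl⟩ := hx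
      have := hKS _ (hBK b hb k hk)
      rwa [map_mul, map_mul, hbinv b hb] at this
    | zero => rw [mul_zero, zero_mul]; exact S.zero_mem
    | one => rw [mul_one, h1]; exact S.one_mem
    | add x y _ _ hx hy => rw [mul_add, add_mul]; exact S.add_mem hx hy
    | neg x _ hx => rw [mul_neg, neg_mul]; exact S.neg_mem hx
    | mul x y _ _ hx hy =>
      have : φ b * (x * y) * φ b = φ b * x * φ b * (φ b * y * φ b) := by
        rw [show φ b * x * φ b * (φ b * y * φ b) = φ b * x * (φ b * φ b) * (y * φ b) by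
          simp only [mul_assoc], h1, mul_one]
        simp only [mul_assoc]
      rw [this]; exact S.mul_mem hx hy
  let E0 : ↥S →+ V :=
    { toFun := fun r => (r : AddMonoid.End V) i
      map_zero' := rfl
      map_add' := fun _ _ => rfl }
  have hbE : ∀ b (hb : b ∈ B) (r : ↥S), φ b (E0 r) = E0 ⟨_, hconj b hb r r.2⟩ := by
    intro b hb r
    show φ b ((r : AddMonoid.End V) i) = φ b ((r : AddMonoid.End V) (φ b i))
    rw [hbi b hb]
  have hgood : ∀ W : AddSubgroup V, (∀ k ∈ K, ∀ v ∈ W, φ k v ∈ W) → (∀ v ∈ W, φ a v ∈ W) →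
      (∀ b ∈ B, ∀ v ∈ W, φ b v ∈ W) → (∃ v ∈ W, v ≠ 0) → W = ⊤ := fun W h1 h2' h3 h4 =>
    hirr W (inv_of_gen φ hgen W fun g hg => by
      rcases hg with (hg | hg) | hg
      · exact h1 g hg
      · exact h3 g hg
      · rw [Set.mem_singleton_iff.1 hg]; exact h2') h4
  have hE : Function.Bijective E0 := by
    refine ⟨(injective_iff_map_eq_zero E0).2 fun r hr => ?_, fun v => ?_⟩
    · have htop : E0.range = ⊤ := by
        refine hgood _ ?_ ?_ ?_ ⟨i, ⟨1, rfl⟩, hv0⟩
        · rintro k hk _ ⟨s, rfl⟩; exact ⟨⟨φ k, hKS k hk⟩ * s, rfl⟩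
        · rintro _ ⟨s, rfl⟩
          obtain ⟨t, ht, e⟩ := haS s s.2 1 S.one_mem ⟨1, S.one_mem, hai⟩
          exact ⟨⟨t, ht⟩, e.symm⟩
        · rintro b hb _ ⟨s, rfl⟩; exact ⟨_, (hbE b hb s).symm⟩
      apply Subtype.ext
      refine AddMonoidHom.ext fun v => ?_
      obtain ⟨s, rfl⟩ : v ∈ E0.range := htop ▸ AddSubgroup.mem_top v
      exact hker s s.2 r r.2 hr
    · have htop : E0.range = ⊤ := by
        refine hgood _ ?_ ?_ ?_ ⟨i, ⟨1, rfl⟩, hv0⟩
        · rintro k hk _ ⟨s, rfl⟩; exact ⟨⟨φ k, hKS k hk⟩ * s, rfl⟩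
        · rintro _ ⟨s, rfl⟩
          obtain ⟨t, ht, e⟩ := haS s s.2 1 S.one_mem ⟨1, S.one_mem, hai⟩
          exact ⟨⟨t, ht⟩, e.symm⟩
        · rintro b hb _ ⟨s, rfl⟩; exact ⟨_, (hbE b hb s).symm⟩
      exact (AddSubgroup.eq_top_iff' _).1 htop v
  let E : ↥S ≃+ V := AddEquiv.ofBijective E0 hE
  have hEap : ∀ r : ↥S, E r = (r : AddMonoid.End V) i := fun r => rfl
  let st : ↥S →+ ↥S := E.symm.toAddMonoidHom.comp ((show V →+ V from φ a).comp E.toAddMonoidHom)
  have hst : ∀ r : ↥S, E (st r) = φ a (E r) := fun r => E.apply_symm_apply _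
  have hst_mul : ∀ x y : ↥S, st (x * y) = st y * st x := by
    suffices ∀ x : AddMonoid.End V, ∀ hx : x ∈ S, ∀ y : ↥S, st (⟨x, hx⟩ * y) = st y * st ⟨x, hx⟩ from
      fun x y => this x x.2 y
    intro x hx
    induction hx using Subring.closure_induction with
    | mem x hx =>
      obtain ⟨k, hk, rfl⟩ := hx
      have base : ∀ y : ↥S, st (⟨φ k, hKS k hk⟩ * y) = st y * ⟨φ k⁻¹, hKS _ (K.inv_mem hk)⟩ := by
        intro y
        apply E.injective
        rw [hst, hEap, hEap]
        show φ a (φ k ((y : AddMonoid.End V) i)) = (st y : AddMonoid.End V) (φ k⁻¹ i)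
        rw [← phi_mul, show a * k = a * k * a * a by rw [mul_assoc _ a a, ha, mul_one], phi_mul,
          ← hEap y, ← hst, hEap, ← hcomA _ (st y).2 k hk, hflip k⁻¹ (K.inv_mem hk) i hiI, inv_inv]
      intro y
      have h1 := base 1
      have hone : st 1 = 1 := E.injective (by rw [hst]; exact hai)
      rw [mul_one, hone, one_mul] at h1
      rw [base y, h1]
    | zero =>
      intro y
      rw [show (⟨0, S.zero_mem⟩ : ↥S) = 0 from rfl, zero_mul, map_zero, mul_zero]
    | one =>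
      intro y
      have hone : st 1 = 1 := E.injective (by rw [hst]; exact hai)
      rw [show (⟨1, S.one_mem⟩ : ↥S) = 1 from rfl, one_mul, hone, mul_one]
    | add u w hu hw ihu ihw =>
      intro y
      rw [show (⟨u + w, S.add_mem hu hw⟩ : ↥S) = ⟨u, hu⟩ + ⟨w, hw⟩ from rfl, add_mul, map_add,
        map_add, mul_add, ihu, ihw]
    | neg u hu ihu =>
      intro y
      rw [show (⟨-u, S.neg_mem hu⟩ : ↥S) = -⟨u, hu⟩ from rfl, neg_mul, map_neg, map_neg, mul_neg, ihu]
    | mul u w hu hw ihu ihw =>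
      intro y
      rw [show (⟨u * w, S.mul_mem hu hw⟩ : ↥S) = ⟨u, hu⟩ * ⟨w, hw⟩ from rfl, mul_assoc, ihu, ihw, ihu,
        mul_assoc]
  have hcent : ∀ c : ↥S, E c ∈ trRange φ a → ∀ x : ↥S, c * x = x * c := by
    intro c hc
    suffices ∀ x : AddMonoid.End V, ∀ hx : x ∈ S, c * ⟨x, hx⟩ = ⟨x, hx⟩ * c from fun x => this x x.2
    intro x hx
    induction hx using Subring.closure_induction with
    | mem x hx =>
      obtain ⟨k, hk, rfl⟩ := hx
      apply E.injective
      rw [hEap, hEap]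
      show (c : AddMonoid.End V) (φ k i) = φ k ((c : AddMonoid.End V) i)
      rw [hflip k hk i hiI, hcomA _ c.2 _ (K.inv_mem hk), ← hEap, hflip k hk _ hc]
    | zero => rw [show (⟨0, S.zero_mem⟩ : ↥S) = 0 from rfl, mul_zero, zero_mul]
    | one => rw [show (⟨1, S.one_mem⟩ : ↥S) = 1 from rfl, mul_one, one_mul]
    | add u w hu hw ihu ihw =>
      rw [show (⟨u + w, S.add_mem hu hw⟩ : ↥S) = ⟨u, hu⟩ + ⟨w, hw⟩ from rfl, add_mul, mul_add, ihu, ihw]
    | neg u hu ihu =>
      rw [show (⟨-u, S.neg_mem hu⟩ : ↥S) = -⟨u, hu⟩ from rfl, neg_mul, mul_neg, ihu]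
    | mul u w hu hw ihu ihw =>
      rw [show (⟨u * w, S.mul_mem hu hw⟩ : ↥S) = ⟨u, hu⟩ * ⟨w, hw⟩ from rfl, ← mul_assoc, ihu,
        mul_assoc, ihw, ← mul_assoc]
  have hb1 : ∀ b ∈ B, φ b * φ b = 1 := fun b hb => by rw [← map_mul, hB2 b hb, map_one]
  let σ : ↥B → (↥S →+* ↥S) := fun b =>
    { toFun := fun r => ⟨_, hconj b b.2 r r.2⟩
      map_one' := Subtype.ext (by
        show φ (b : G) * 1 * φ (b : G) = 1
        rw [mul_one, hb1 b b.2])
      map_mul' := fun x y => Subtype.ext (by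
        show φ (b : G) * (x * y : AddMonoid.End V) * φ (b : G) =
          φ (b : G) * x * φ (b : G) * (φ (b : G) * y * φ (b : G))
        rw [show φ (b : G) * (x : AddMonoid.End V) * φ (b : G) * (φ (b : G) * y * φ (b : G)) =
          φ (b : G) * x * (φ (b : G) * φ (b : G)) * (y * φ (b : G)) by simp only [mul_assoc],
          hb1 b b.2, mul_one]
        simp only [mul_assoc])
      map_zero' := Subtype.ext (by
        show φ (b : G) * 0 * φ (b : G) = 0
        rw [mul_zero, zero_mul])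
      map_add' := fun x y => Subtype.ext (by
        show φ (b : G) * (x + y : AddMonoid.End V) * φ (b : G) =
          φ (b : G) * x * φ (b : G) + φ (b : G) * y * φ (b : G)
        rw [mul_add, add_mul]) }
  have hσE : ∀ (b : ↥B) r, E (σ b r) = φ (b : G) (E r) := fun b r => (hbE b b.2 r).symm
  have hst1 : ∀ r : ↥S, E (r + st r) = φ a (E r) + E r := fun r => by rw [map_add, hst, add_comm]
  have hstgen : ∀ k (hk : k ∈ K), st ⟨φ k, hKS k hk⟩ = ⟨φ k⁻¹, hKS _ (K.inv_mem hk)⟩ := by
    intro k hk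
    apply E.injective
    rw [hst, hEap, hEap]
    show φ a (φ k i) = φ k⁻¹ i
    rw [← phi_mul, show a * k = a * k * a * a by rw [mul_assoc _ a a, ha, mul_one], phi_mul, hai,
      hflip k⁻¹ (K.inv_mem hk) i hiI, inv_inv]
  let Q : QuadData ↥S ↥B :=
    { st := st
      s := σ
      two := fun x => E.injective (by rw [map_add, h2, map_zero])
      st_mul := hst_mul
      st_st := fun x => E.injective (by rw [hst, hst, ← phi_mul, ha, phi_one])
      cent := fun r x => hcent _ (by rw [hst1]; exact mem_trRange.2 ⟨_, rfl⟩) x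
      invol := fun b x => E.injective (by rw [hσE, hσE, ← phi_mul, hB2 b b.2, phi_one])
      comm := fun b c x => E.injective (by
        rw [hσE, hσE, hσE, hσE, ← phi_mul, ← phi_mul, hBc b b.2 c c.2])
      s_st := fun b x => E.injective (by
        rw [hσE, hst, hst, hσE, ← phi_mul, ← phi_mul, hBa b b.2])
      fix := fun b r => E.injective (by rw [hσE, hst1]; exact hIB b b.2 _)
      irr := by
        intro I hl hr hs hσ hy
        obtain ⟨y, hyI, hy0⟩ := hy
        have htop : I.map E.toAddMonoidHom = ⊤ := by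
          refine hgood _ ?_ ?_ ?_ ⟨E y, ⟨y, hyI, rfl⟩, fun h => hy0 (E.injective (by rw [h, map_zero]))⟩
          · rintro k hk _ ⟨s, hsI, rfl⟩; exact ⟨⟨φ k, hKS k hk⟩ * s, hl _ _ hsI, rfl⟩
          · rintro _ ⟨s, hsI, rfl⟩; exact ⟨st s, hs s hsI, hst s⟩
          · rintro b hb _ ⟨s, hsI, rfl⟩; exact ⟨σ ⟨b, hb⟩ s, hσ _ s hsI, hσE _ s⟩
        obtain ⟨s, hsI, hs1⟩ : E 1 ∈ I.map E.toAddMonoidHom := htop ▸ AddSubgroup.mem_top _
        rwa [E.injective hs1] at hsI
      noncomm := by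
        obtain ⟨x, hx, y, hy, hxy⟩ := hnc
        exact ⟨⟨φ x, hKS x hx⟩, ⟨φ y, hKS y hy⟩, fun h => hxy (congrArg Subtype.val h)⟩
      nontriv := ⟨E.symm v0, fun h => hv0 (by
        have := congrArg E h
        rwa [hst1, E.apply_symm_apply, map_zero] at this)⟩ }
  haveI : Finite ↥S := Finite.of_injective E E.injective
  obtain ⟨hb, hc, hd⟩ := Q.bound
  have hJ : Nat.card Q.J = Nat.card (trRange φ a) := by
    have : trRange φ a = Q.J.map E.toAddMonoidHom := by
      ext v
      rw [mem_trRange]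
      constructor
      · rintro ⟨w, rfl⟩
        refine ⟨E.symm w + st (E.symm w), Q.mem_J.2 ⟨_, rfl⟩, ?_⟩
        show E _ = _
        rw [hst1, E.apply_symm_apply]
      · rintro ⟨_, ⟨r, rfl⟩, rfl⟩
        exact ⟨E r, (hst1 r).symm⟩
    rw [this]
    exact Nat.card_congr (Q.J.equivMapOfInjective E.toAddMonoidHom E.injective).toEquiv
  have hσk : ∀ b (hb : b ∈ B) k (hk : k ∈ K),
      σ ⟨b, hb⟩ ⟨φ k, hKS k hk⟩ = ⟨φ (b * k * b⁻¹), hKS _ (hBK b hb k hk)⟩ := by
    intro b hb k hk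
    apply Subtype.ext
    show φ b * φ k * φ b = φ (b * k * b⁻¹)
    rw [map_mul, map_mul, hbinv b hb]
  rw [hJ] at hb hc
  refine ⟨le_trans ?_ hb, ?_, ?_, ?_⟩
  · let F : Set.range (fun b : B => φ (b : G)) → Set.range (fun b => (Q.s b : ↥S → ↥S)) :=
      fun f => ⟨_, ⟨f.2.choose, rfl⟩⟩
    refine Nat.card_le_card_of_injective F fun f g h => Subtype.ext ?_
    rw [← f.2.choose_spec, ← g.2.choose_spec]
    refine AddMonoidHom.ext fun v => ?_
    obtain ⟨r, rfl⟩ := E.surjective v
    show φ (f.2.choose : G) (E r) = φ (g.2.choose : G) (E r)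
    rw [← hσE, ← hσE]
    exact congrArg E (congrFun (congrArg Subtype.val h) r)
  · rcases hc with h | h
    · refine Or.inl fun b hb k hk => ?_
      have h1 := h ⟨b, hb⟩ ⟨φ k, hKS k hk⟩
      rw [show Q.s ⟨b, hb⟩ ⟨φ k, hKS k hk⟩ = _ from hσk b hb k hk] at h1
      exact congrArg Subtype.val h1
    · right
      have e1 : Nat.card ↥S = Nat.card V := Nat.card_congr E.toEquiv
      have e2 : Nat.card {x : ↥S // ∀ b, Q.s b x = x} = Nat.card {v : V // ∀ b ∈ B, φ b v = v} := by
        refine Nat.card_congr (E.toEquiv.subtypeEquiv fun x => ?_)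
        constructor
        · intro h b hb
          show φ b (E x) = E x
          rw [← hσE ⟨b, hb⟩ x]
          exact congrArg E (h ⟨b, hb⟩)
        · intro h b
          apply E.injective
          rw [show Q.s b x = σ b x from rfl, hσE]
          exact h b b.2
      rwa [e1, e2] at h
  · intro b hb k hk hcomm m hm
    have h1 := hd ⟨b, hb⟩ ⟨φ k, hKS k hk⟩
    rw [show Q.s ⟨b, hb⟩ ⟨φ k, hKS k hk⟩ = _ from hσk b hb k hk] at h1
    exact congrArg Subtype.val (h1 (Subtype.ext hcomm) ⟨φ m, hKS m hm⟩)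
  · intro hq k hk
    set x : ↥S := ⟨φ k, hKS k hk⟩ with hx
    set x' : ↥S := ⟨φ k⁻¹, hKS _ (K.inv_mem hk)⟩ with hx'
    have hxx : x * x' = 1 := Subtype.ext (by
      show φ k * φ k⁻¹ = 1
      rw [← map_mul, mul_inv_cancel, map_one])
    have hmem : x + x' ∈ Q.J := Q.mem_J.2 ⟨x, by show x + st x = _; rw [hstgen k hk]⟩
    by_cases h0 : x + x' = 0
    · left
      have : x = x' := Q.eq_of_add h0
      rw [← this] at hxx
      exact congrArg Subtype.val hxx
    · right
      have h1 : x + x' = 1 := by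
        by_contra hne
        have h10 : (1 : ↥S) ≠ 0 := fun h => h0 (by rw [← mul_one (x + x'), h, mul_zero])
        have : 3 ≤ Nat.card Q.J := by
          haveI : Fintype Q.J := Fintype.ofFinite _
          have hc3 : ({(0 : Q.J), ⟨1, Q.J_one⟩, ⟨x + x', hmem⟩} : Finset Q.J).card = 3 :=
            Finset.card_eq_three.2 ⟨_, _, _, fun h => h10 (congrArg Subtype.val h).symm,
              fun h => h0 (congrArg Subtype.val h).symm, fun h => hne (congrArg Subtype.val h).symm, rfl⟩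
          rw [Nat.card_eq_fintype_card, ← hc3]
          exact Finset.card_le_univ _
        omega
      have h2' : x * x + 1 = x := by
        have := congrArg (x * ·) h1
        simpa only [mul_add, hxx, mul_one] using this
      have h3 : x * x * x = 1 := by
        have h4 : x * x = x + 1 := by
          calc x * x = x * x + (1 + 1) := by rw [Q.two, add_zero]
            _ = x + 1 := by rw [← add_assoc, h2']
        rw [h4, add_mul, one_mul, h4, add_comm x 1, add_assoc, Q.two, add_zero]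
      exact congrArg Subtype.val h3

end Cfsg.Lib.Components.Timmesfeld
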