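import Cfsg.Agent.Components.Timmesfeld.Tools

/-!
The configurations that cannot occur.
-/

namespace Cfsg.Lib.Components.Timmesfeld

open Subgroup
open scoped commutatorElement

universe u v

variable {G : Type u} [Group G] [Finite G] {V : Type v} [AddCommGroup V] [Finite V]
  (φ : G →* AddMonoid.End V)

/-- the identity for a quadratic conjugation -/
theorem quad_identity {R : Type*} [Ring R] (n : R) (hn : n * n = 0) (x y x' y' x'' y'' : R)
    (ex : x' = (1 + n) * x * (1 - n)) (ey : y' = (1 + n) * y * (1 - n))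
    (ex' : x'' = (1 + n) * x' * (1 - n)) (ey' : y'' = (1 + n) * y' * (1 - n))
    (h2 : x' * y' = y' * x') (h3 : x'' * y' = y' * x'') (h4 : x * y' = y' * x) :
    (x'' - x) * (y'' - y') = 0 := by
  have hnn : ∀ z, n * (n * z) = 0 := fun z => by rw [← mul_assoc, hn, zero_mul]
  have hN : ∀ z, (1 + n) * ((1 + n) * z * (1 - n)) * (1 - n) - (1 + n) * z * (1 - n)
      - (1 + n) * z * (1 - n) + z = -(n * z * n) - n * z * n := by
    intro z
    simp only [add_mul, mul_add, mul_sub, sub_mul, one_mul, mul_one, mul_assoc, hn, hnn, mul_zero,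
      zero_mul]
    abel
  have hD : ∀ z, ((1 + n) * z * (1 - n) - z) * n = n * z * n := by
    intro z
    simp only [add_mul, mul_add, mul_sub, sub_mul, one_mul, mul_one, mul_assoc, hn, hnn, mul_zero,
      zero_mul]
    abel
  have h1 : (1 - n) * (1 + n) = 1 := by
    rw [sub_mul, one_mul, mul_add, mul_one, hn, add_zero, add_sub_cancel_right]
  have hmul : ∀ z w, (1 + n) * (z * w) * (1 - n) =
      (1 + n) * z * (1 - n) * ((1 + n) * w * (1 - n)) := by
    intro z w
    rw [show (1 + n) * z * (1 - n) * ((1 + n) * w * (1 - n)) =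
      (1 + n) * z * ((1 - n) * (1 + n)) * (w * (1 - n)) by simp only [mul_assoc], h1, mul_one]
    simp only [mul_assoc]
  have e1 := hN (x * y)
  rw [hmul x y, ← ex, ← ey, hmul x' y', ← ex', ← ey'] at e1
  have e2 : n * (x * y) * n = y' * (n * x * n) + x * (n * y * n) := by
    rw [← hD (x * y), hmul x y, ← hD x, ← hD y, ← ex, ← ey, ← mul_assoc, ← mul_assoc, ← add_mul,
      mul_sub, mul_sub, ← h2, ← h4]
    congr 1
    abel
  rw [e2] at e1
  have e3 : x'' * y'' - x' * y' - x' * y' + x * y =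
      y' * (-(n * x * n) - n * x * n) + x * (-(n * y * n) - n * y * n) := by
    rw [e1, mul_sub, mul_sub, mul_neg, mul_neg]
    abel
  have ex2 := hN x
  rw [← ex, ← ex'] at ex2
  have ey2 := hN y
  rw [← ey, ← ey'] at ey2
  rw [← ex2, ← ey2, mul_add, mul_sub, mul_sub, mul_add, mul_sub, mul_sub, ← h3, ← h2, ← h4] at e3
  rw [sub_mul, mul_sub, mul_sub]
  rw [← sub_eq_zero] at e3
  rw [← e3]
  abel

theorem end_sub_apply (f g : AddMonoid.End V) (v : V) : (f - g) v = f v - g v := rfl

theorem one_apply' (v : V) : (1 : AddMonoid.End V) v = v := rfl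

/-- `p` odd: a quadratic element normalising `K` and an element moving `K` -/
theorem odd_moved {K : Subgroup G} (hK : Good K) (a b : G) {p : ℕ} (hp : Odd p) (hbp : b ^ p = 1)
    (hKa : ∀ x ∈ K, ∀ y ∈ K, x * (a * y * a⁻¹) = a * y * a⁻¹ * x)
    (hb : ∀ k ∈ K, b * k * b⁻¹ ∈ K) (hba : b * a = a * b)
    (hne : ∃ k ∈ K, b * k * b⁻¹ ≠ k)
    (hq : ∀ v, φ b (φ b v - v) = φ b v - v) (hfix : ∀ v, φ a (φ b v - v) = φ b v - v) :
    ∀ k ∈ K, φ k = 1 := by
  set B := φ b with hB
  set n : AddMonoid.End V := B - 1 with hn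
  have hnn : n * n = 0 := by
    refine AddMonoidHom.ext fun v => ?_
    show (B - 1) ((B - 1) v) = 0
    rw [end_sub_apply, end_sub_apply, one_apply', one_apply', hq, sub_self]
  have hB1 : B = 1 + n := by rw [hn]; abel
  have hB' : φ b⁻¹ = 1 - n := by
    calc φ b⁻¹ = φ b⁻¹ * ((1 + n) * (1 - n)) := by
          rw [mul_sub, mul_one, add_mul, one_mul, hnn, add_zero, add_sub_cancel_right, mul_one]
      _ = 1 - n := by
          rw [← mul_assoc, ← hB1, ← map_mul, inv_mul_cancel, map_one, one_mul]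
  have hconj : ∀ g, φ (b * g * b⁻¹) = (1 + n) * φ g * (1 - n) := fun g => by
    rw [map_mul, map_mul, ← hB, hB', hB1]
  have hb' : ∀ k ∈ K, b⁻¹ * k * b ∈ K := by
    intro k hk
    have hinj : Function.Injective (fun x : K => (⟨b * x * b⁻¹, hb x x.2⟩ : K)) := fun x y h =>
      Subtype.ext (mul_left_cancel (mul_right_cancel (congrArg Subtype.val h)))
    obtain ⟨x, hx⟩ := Finite.surjective_of_injective hinj ⟨k, hk⟩
    have hx' : b * x * b⁻¹ = k := congrArg Subtype.val hx
    rw [← hx', show b⁻¹ * (b * x * b⁻¹) * b = x by group]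
    exact x.2
  -- commuting with the second component
  have hKy : ∀ x ∈ K, ∀ y ∈ K, φ x * φ (a * y * a⁻¹) = φ (a * y * a⁻¹) * φ x := fun x hx y hy => by
    rw [← map_mul, ← map_mul, hKa x hx y hy]
  have hby : ∀ y, b * (a * y * a⁻¹) * b⁻¹ = a * (b * y * b⁻¹) * a⁻¹ := fun y => by
    calc b * (a * y * a⁻¹) * b⁻¹ = (b * a) * y * (b * a)⁻¹ := by group
      _ = _ := by rw [hba]; group
  have key : ∀ x ∈ K, ∀ y ∈ K,
      (φ (b * (b * x * b⁻¹) * b⁻¹) - φ x) *
        (φ (a * (b * (b * y * b⁻¹) * b⁻¹) * a⁻¹) - φ (a * (b * y * b⁻¹) * a⁻¹)) = 0 := by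
    intro x hx y hy
    refine quad_identity n hnn (φ x) (φ (a * y * a⁻¹)) (φ (b * x * b⁻¹)) _ _ _
      (hconj x) ?_ (hconj _) ?_ (hKy _ (hb x hx) _ (hb y hy)) (hKy _ (hb _ (hb x hx)) _ (hb y hy))
      (hKy x hx _ (hb y hy))
    · rw [← hconj, hby]
    · rw [← hconj, hby]
  -- `(x - 1) (y - 1) = 0`
  have hgen2 : K ≤ closure {z | ∃ k ∈ K, z = k⁻¹ * (b * b * k * (b * b)⁻¹)} := by
    refine hK.gen_of_moved (b := b * b) (fun k hk => ?_) ?_
    · rw [show b * b * k * (b * b)⁻¹ = b * (b * k * b⁻¹) * b⁻¹ by group]; exact hb _ (hb k hk)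
    · by_contra hall
      push Not at hall
      obtain ⟨k, hk, hkb⟩ := hne
      apply hkb
      obtain ⟨m, hm⟩ := hp
      have hc : ∀ j : ℕ, (b * b) ^ j * k = k * (b * b) ^ j := fun j =>
        (Commute.pow_left (show Commute (b * b) k from mul_inv_eq_iff_eq_mul.1 (hall k hk)) j).eq
      have hb2 : b = (b * b) ^ (m + 1) := by
        rw [← pow_two, ← pow_mul, show 2 * (m + 1) = p + 1 by omega, pow_succ, hbp, one_mul]
      rw [mul_inv_eq_iff_eq_mul, hb2]
      exact hc _
  have h0 : ∀ x ∈ K, ∀ y ∈ K,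
      (φ x - 1) * (φ (a * (y⁻¹ * (b * y * b⁻¹)) * a⁻¹) - 1) = 0 := by
    intro x hx y hy
    suffices ∀ g ∈ closure {z | ∃ k ∈ K, z = k⁻¹ * (b * b * k * (b * b)⁻¹)},
        (φ g - 1) * (φ (a * (y⁻¹ * (b * y * b⁻¹)) * a⁻¹) - 1) = 0 from this x (hgen2 hx)
    intro g h
    induction h using closure_induction with
    | mem z hz =>
      obtain ⟨k, hk, rfl⟩ := hz
      have e := key k hk (b⁻¹ * y * b) (hb' y hy)
      rw [show b * (b⁻¹ * y * b) * b⁻¹ = y by group] at e
      have e' := congrArg (fun f => φ k⁻¹ * f) e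
      simp only [mul_zero] at e'
      rw [← mul_assoc, mul_sub (φ k⁻¹), ← map_mul, ← map_mul, inv_mul_cancel, map_one,
        show k⁻¹ * (b * (b * k * b⁻¹) * b⁻¹) = k⁻¹ * (b * b * k * (b * b)⁻¹) by group,
        show a * (b * y * b⁻¹) * a⁻¹ = a * y * a⁻¹ * (a * (y⁻¹ * (b * y * b⁻¹)) * a⁻¹) by group,
        map_mul φ (a * y * a⁻¹), ← mul_sub_one] at e'
      have hcom : (φ (k⁻¹ * (b * b * k * (b * b)⁻¹)) - 1) * φ (a * y * a⁻¹) =
          φ (a * y * a⁻¹) * (φ (k⁻¹ * (b * b * k * (b * b)⁻¹)) - 1) := by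
        rw [sub_mul, mul_sub, one_mul, mul_one, hKy _ ?_ y hy]
        refine K.mul_mem (K.inv_mem hk) ?_
        rw [show b * b * k * (b * b)⁻¹ = b * (b * k * b⁻¹) * b⁻¹ by group]
        exact hb _ (hb k hk)
      rw [← mul_assoc, hcom, mul_assoc] at e'
      have e'' := congrArg (fun f => φ (a * y * a⁻¹)⁻¹ * f) e'
      simp only [mul_zero] at e''
      rwa [← mul_assoc, ← map_mul, inv_mul_cancel, map_one, one_mul] at e''
    | one => rw [map_one, sub_self, zero_mul]
    | mul u w _ _ hu hw =>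
      rw [map_mul, show φ u * φ w - 1 = φ u * (φ w - 1) + (φ u - 1) by rw [mul_sub, mul_one]; abel,
        add_mul, mul_assoc, hw, mul_zero, zero_add, hu]
    | inv u _ hu =>
      rw [show φ u⁻¹ - 1 = -(φ u⁻¹ * (φ u - 1)) by
        rw [mul_sub, ← map_mul, inv_mul_cancel, map_one, mul_one, neg_sub], neg_mul, mul_assoc, hu,
        mul_zero, neg_zero]
  have hzero : ∀ x ∈ K, ∀ y ∈ K, (φ x - 1) * (φ (a * y * a⁻¹) - 1) = 0 := by
    intro x hx y hy
    suffices ∀ g ∈ closure {z | ∃ k ∈ K, z = k⁻¹ * (b * k * b⁻¹)},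
        (φ x - 1) * (φ (a * g * a⁻¹) - 1) = 0 from this y (hK.gen_of_moved hb hne hy)
    intro g h
    induction h using closure_induction with
    | mem z hz => obtain ⟨k, hk, rfl⟩ := hz; exact h0 x hx k hk
    | one => rw [show a * 1 * a⁻¹ = 1 by group, map_one, sub_self, mul_zero]
    | mul u w _ _ hu hw =>
      rw [show a * (u * w) * a⁻¹ = a * u * a⁻¹ * (a * w * a⁻¹) by group, map_mul,
        show φ (a * u * a⁻¹) * φ (a * w * a⁻¹) - 1 =
          (φ (a * u * a⁻¹) - 1) * φ (a * w * a⁻¹) + (φ (a * w * a⁻¹) - 1) by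
          rw [sub_mul, one_mul]; abel,
        mul_add, ← mul_assoc, hu, zero_mul, zero_add, hw]
    | inv u _ hu =>
      rw [show φ (a * u⁻¹ * a⁻¹) - 1 = -((φ (a * u * a⁻¹) - 1) * φ (a * u⁻¹ * a⁻¹)) by
        rw [sub_mul, one_mul, ← map_mul, show a * u * a⁻¹ * (a * u⁻¹ * a⁻¹) = 1 by group, map_one,
          neg_sub], mul_neg, ← mul_assoc, hu, zero_mul, neg_zero]
  have hz1 : ∀ x ∈ K, ∀ y ∈ K, ∀ v, φ x (φ (a * y * a⁻¹) v - v) = φ (a * y * a⁻¹) v - v := by
    intro x hx y hy v
    have h : (φ x - 1) ((φ (a * y * a⁻¹) - 1) v) = 0 :=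
      congrArg (fun f : AddMonoid.End V => f v) (hzero x hx y hy)
    rwa [end_sub_apply, end_sub_apply, one_apply', one_apply', sub_eq_zero] at h
  -- the commutator space
  set W : AddSubgroup V := AddSubgroup.closure {w | ∃ x ∈ K, ∃ v, φ x v - v = w} with hW
  have hWK : ∀ k ∈ K, ∀ w ∈ W, φ k w ∈ W := by
    intro k hk w hw
    induction hw using AddSubgroup.closure_induction with
    | mem w hw =>
      obtain ⟨x, hx, v, rfl⟩ := hw
      have e : φ k (φ x v - v) = (φ (k * x) v - v) - (φ k v - v) := by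
        rw [map_sub, phi_mul]; abel
      rw [e]
      exact W.sub_mem (AddSubgroup.subset_closure ⟨_, K.mul_mem hk hx, v, rfl⟩)
        (AddSubgroup.subset_closure ⟨k, hk, v, rfl⟩)
    | zero => rw [map_zero]; exact W.zero_mem
    | add u w _ _ hu hw => rw [map_add]; exact W.add_mem hu hw
    | neg u _ hu => rw [map_neg]; exact W.neg_mem hu
  have hbw : ∀ w ∈ W, ∀ k ∈ K, φ k (φ b w - w) = φ b w - w := by
    intro w hw k hk
    induction hw using AddSubgroup.closure_induction with
    | mem w hw =>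
      obtain ⟨x, hx, v, rfl⟩ := hw
      have e1 := hfix (φ x v - v)
      have e2 : φ a (φ x v - v) = φ (a * x * a⁻¹) (φ a v) - φ a v := by
        rw [map_sub, ← phi_mul φ (a * x * a⁻¹), show a * x * a⁻¹ * a = a * x by group, phi_mul]
      have e3 : φ a (φ b (φ x v - v)) =
          φ (a * (b * x * b⁻¹) * a⁻¹) (φ a (φ b v)) - φ a (φ b v) := by
        rw [map_sub, map_sub]
        congr 1
        simp only [← phi_mul]
        congr 2
        group
      rw [← e1, map_sub (φ a), e2, e3, map_sub, hz1 k hk _ (hb x hx), hz1 k hk x hx]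
    | zero => rw [map_zero, sub_zero, map_zero]
    | add u w _ _ hu hw =>
      rw [map_add, show φ b u + φ b w - (u + w) = (φ b u - u) + (φ b w - w) by abel, map_add, hu, hw]
    | neg u _ hu =>
      rw [map_neg, show -φ b u - -u = -(φ b u - u) by abel, map_neg, hu]
  have hgenW : ∀ z ∈ K, ∀ w ∈ W, ∀ k ∈ K, φ k (φ z w - w) = φ z w - w := by
    intro z hz w hw
    have h := hK.gen_of_moved hb hne hz
    have hsub : ∀ g, g ∈ closure {z | ∃ k ∈ K, z = k⁻¹ * (b * k * b⁻¹)} → g ∈ K := fun g hg =>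
      (closure_le (K := K)).2 (by rintro _ ⟨m, hm, rfl⟩; exact K.mul_mem (K.inv_mem hm) (hb m hm)) hg
    clear hz
    induction h using closure_induction generalizing w with
    | mem z hz =>
      obtain ⟨x, hx, rfl⟩ := hz
      intro k hk
      -- `f` is fixed by `K`
      set f := (φ b (φ x w) - φ x w) - (φ b w - w) with hf
      have hff : ∀ k ∈ K, φ k f = f := fun k hk => by
        rw [hf, map_sub, hbw _ (hWK x hx w hw) k hk, hbw w hw k hk]
      have e1 : φ (b * x * b⁻¹) (φ b w) = φ b (φ x w) := by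
        rw [← phi_mul, ← phi_mul, show b * x * b⁻¹ * b = b * x by group]
      have e1' : φ (b * x * b⁻¹) w + (φ b w - w) = φ b (φ x w) := by
        rw [← e1]
        conv_rhs => rw [show φ b w = w + (φ b w - w) by abel, map_add, hbw w hw _ (hb x hx)]
      have e2 : φ (b * x * b⁻¹) w = φ x w + f := by
        rw [hf, ← e1']; abel
      have e3 : φ (x⁻¹ * (b * x * b⁻¹)) w - w = f := by
        rw [phi_mul, e2, map_add, phi_inv_apply, hff _ (K.inv_mem hx)]; abel
      rw [e3]; exact hff k hk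
    | one => intro k _; rw [phi_one, sub_self, map_zero]
    | mul g h hg hh ihg ihh =>
      intro k hk
      have e : φ (g * h) w - w = (φ h w - w) + (φ g w - w) := by
        have := ihh w hw g (hsub g hg)
        rw [map_sub, ← phi_mul, sub_eq_iff_eq_add] at this
        rw [this]; abel
      rw [e, map_add, ihh w hw k hk, ihg w hw k hk]
    | inv g hg ihg =>
      intro k hk
      have h1 := ihg w hw g⁻¹ (K.inv_mem (hsub g hg))
      rw [map_sub, phi_inv_apply] at h1
      have e : φ g⁻¹ w - w = -(φ g w - w) := by rw [← h1]; abel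
      rw [e, map_neg, ihg w hw k hk]
  have htrivW : ∀ k ∈ K, ∀ w ∈ W, φ k w = w := by
    intro k hk w hw
    have := trivial_mod φ hK.perf W ⊥ hWK
      (fun k _ v hv => by rw [AddSubgroup.mem_bot] at hv ⊢; rw [hv, map_zero])
      (fun x hx y hy v hv => by
        rw [AddSubgroup.mem_bot, sub_eq_zero]
        have e1 := hgenW y hy v hv x hx
        have e2 := hgenW x hx v hv y hy
        rw [map_sub, ← phi_mul, sub_eq_iff_eq_add] at e1 e2
        rw [e1, e2]; abel) k hk w hw
    rwa [AddSubgroup.mem_bot, sub_eq_zero] at this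
  intro k hk
  refine AddMonoidHom.ext fun v => ?_
  exact trivial_of_series φ hK.perf ⊤ W (fun _ _ _ _ => AddSubgroup.mem_top _) htrivW
    (fun k hk v _ => AddSubgroup.subset_closure ⟨k, hk, v, rfl⟩) k hk v (AddSubgroup.mem_top v)

/-- `p` odd: a quadratic element moving `K` -/
theorem odd_quad {K : Subgroup G} (hK : Good K) (a : G) {p : ℕ} [hp : Fact p.Prime] (hodd : p ≠ 2)
    (hpV : ∀ v : V, p • v = 0)
    (h01 : ∀ x ∈ K, ∀ y ∈ K, x * (a * y * a⁻¹) = a * y * a⁻¹ * x)
    (h02 : ∀ x ∈ K, ∀ y ∈ K, x * (a * (a * y * a⁻¹) * a⁻¹) = a * (a * y * a⁻¹) * a⁻¹ * x)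
    (hq : ∀ v, φ a (φ a v - v) = φ a v - v) : ∀ k ∈ K, φ k = 1 := by
  have hpE : ∀ f : AddMonoid.End V, p • f = 0 := fun f => AddMonoidHom.ext fun v => hpV (f v)
  have h2 : ∀ f : AddMonoid.End V, f + f = 0 → f = 0 := by
    intro f hf
    obtain ⟨m, hm⟩ := hp.out.odd_of_ne_two hodd
    have := hpE f
    rwa [hm, succ_nsmul, mul_comm, mul_nsmul, two_nsmul, ← nsmul_add, hf, nsmul_zero, zero_add] at this
  set A := φ a with hA
  have hA2 : A * A = A + A - 1 := by
    refine AddMonoidHom.ext fun v => ?_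
    show A (A v) = A v + A v - v
    have := hq v
    rw [map_sub, sub_eq_iff_eq_add] at this
    rw [this]; abel
  let T : Subgroup G :=
    { carrier := {g | g ∈ K ∧ ∀ m ∈ K, φ g * φ m = φ m * φ g}
      one_mem' := ⟨K.one_mem, fun m _ => by rw [map_one, one_mul, mul_one]⟩
      mul_mem' := fun {x y} hx hy => ⟨K.mul_mem hx.1 hy.1, fun m hm => by
        rw [map_mul, mul_assoc, hy.2 m hm, ← mul_assoc, hx.2 m hm, mul_assoc]⟩
      inv_mem' := fun {x} hx => ⟨K.inv_mem hx.1, fun m hm => by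
        calc φ x⁻¹ * φ m = φ x⁻¹ * (φ m * φ x) * φ x⁻¹ := by
              rw [← map_mul, ← map_mul, ← map_mul, ← map_mul]; congr 1; group
          _ = φ x⁻¹ * (φ x * φ m) * φ x⁻¹ := by rw [hx.2 m hm]
          _ = φ m * φ x⁻¹ := by
              rw [← map_mul, ← map_mul, ← map_mul, ← map_mul]; congr 1; group⟩ }
  have hTK : T ≤ K := fun g hg => hg.1
  have hTn : ∀ x ∈ K, ∀ z ∈ T, x * z * x⁻¹ ∈ T := by
    intro x hx z hz
    have e : φ (x * z * x⁻¹) = φ z := by
      rw [map_mul, map_mul, ← hz.2 x hx, mul_assoc, ← map_mul, mul_inv_cancel, map_one, mul_one]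
    exact ⟨K.mul_mem (K.mul_mem hx hz.1) (K.inv_mem hx), fun m hm => by rw [e]; exact hz.2 m hm⟩
  -- elements of order prime to `p`
  have hcop : ∀ m ∈ K, (orderOf m).Coprime p → m ∈ T := by
    intro m hm hco
    refine ⟨hm, fun k hk => ?_⟩
    set s := φ m with hs
    set s1 := φ (a * m * a⁻¹) with hs1
    set s2 := φ (a * (a * m * a⁻¹) * a⁻¹) with hs2
    have ea : A * s = s1 * A := by
      rw [hA, hs, hs1, ← map_mul, ← map_mul]; congr 1; group
    have ea2 : A * s1 = s2 * A := by
      rw [hA, hs1, hs2, ← map_mul, ← map_mul]; congr 1; group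
    have c1 : s * s1 = s1 * s := by rw [hs, hs1, ← map_mul, ← map_mul, h01 m hm m hm]
    have c2 : s * s2 = s2 * s := by rw [hs, hs2, ← map_mul, ← map_mul, h02 m hm m hm]
    have e1 : (A * A) * s = s2 * (A * A) := by rw [mul_assoc, ea, ← mul_assoc, ea2, mul_assoc]
    rw [hA2, sub_mul, one_mul, add_mul, ea, mul_sub, mul_one, mul_add] at e1
    have e2 : (s2 - s1) * A + (s2 - s1) * A = s2 - s := by
      rw [sub_mul]
      calc s2 * A - s1 * A + (s2 * A - s1 * A)
          = (s2 * A + s2 * A - s2) - (s1 * A + s1 * A - s) + (s2 - s) := by abel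
        _ = s2 - s := by rw [← e1, sub_self, zero_add]
    have e3 : (s2 - s) * A = (s1 - s) + (s1 - s) := by
      calc (s2 - s) * A = ((s2 - s1) * A + (s2 - s1) * A) * A := by rw [e2]
        _ = (s2 - s1) * (A * A) + (s2 - s1) * (A * A) := by rw [add_mul, mul_assoc]
        _ = ((s2 - s1) * A + (s2 - s1) * A) + ((s2 - s1) * A + (s2 - s1) * A)
              - ((s2 - s1) + (s2 - s1)) := by
            rw [hA2, mul_sub, mul_one, mul_add]; abel
        _ = _ := by rw [e2]; abel
    set D := s1 - s with hD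
    have cE : s * (s2 - s) = (s2 - s) * s := by rw [mul_sub, sub_mul, c2]
    have cD : s * D = D * s := by rw [hD, mul_sub, sub_mul, c1]
    have e4 : (D + D) * s = (D + D) * s1 := by
      calc (D + D) * s = s * (D + D) := by rw [add_mul, mul_add, cD]
        _ = s * (s2 - s) * A := by rw [mul_assoc, e3]
        _ = (s2 - s) * (s * A) := by rw [cE, mul_assoc]
        _ = (s2 - s) * s * A := (mul_assoc _ _ _).symm
        _ = _ := by
          have h5 : (s2 - s) * s1 * A = (D + D) * s := by rw [mul_assoc, ← ea, ← mul_assoc, e3]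
          have h6 : s * (D + D) = (s2 - s) * s * A := by rw [← cE, mul_assoc, e3]
          rw [← h6]
          -- compare the two sides
          have h7 : s1 * (D + D) = (D + D) * s1 := by
            rw [hD, mul_add, add_mul, mul_sub, sub_mul, c1]
          have h8 : s1 * (s2 - s) = (s2 - s) * s1 := by
            have c3 : s1 * s2 = s2 * s1 := by
              have := congrArg (fun f => A * f) c1
              simp only [← mul_assoc, ea] at this
              rw [mul_assoc s1, ea2, mul_assoc s2, ea, ← mul_assoc, ← mul_assoc] at this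
              have h' := congrArg (fun f => f * φ a⁻¹) this
              simp only [mul_assoc, hA, ← map_mul, mul_inv_cancel, map_one, mul_one] at h'
              exact h'
            rw [mul_sub, sub_mul, c3, c1]
          rw [← h7, ← e3, ← mul_assoc s1, h8, h5, e3, mul_add, add_mul, cD]
    have hDD : D * D = 0 := by
      apply h2
      calc D * D + D * D = (D + D) * (s1 - s) := by rw [add_mul]
        _ = 0 := by rw [mul_sub, e4, sub_self]
    have hpw : ∀ n : ℕ, s1 ^ (n + 1) = s ^ (n + 1) + (n + 1) • (s ^ n * D) := by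
      intro n
      induction n with
      | zero => simp [hD]
      | succ n ih =>
        rw [pow_succ s1, ih, add_mul, smul_mul_assoc]
        have h1 : s ^ n * D * s1 = s ^ (n + 1) * D := by
          rw [mul_assoc, show D * s1 = s * D by
            rw [show s1 = s + D by rw [hD]; abel, mul_add, hDD, add_zero, cD], ← mul_assoc, ← pow_succ]
        have h2' : s ^ (n + 1) * s1 = s ^ (n + 1 + 1) + s ^ (n + 1) * D := by
          rw [pow_succ s (n + 1), hD, mul_sub]; abel
        rw [h1, h2', succ_nsmul' _ (n + 1), add_assoc]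
    have hpp : φ ((a * m * a⁻¹) ^ p) = φ (m ^ p) := by
      obtain ⟨n, hn⟩ := Nat.exists_eq_succ_of_ne_zero hp.out.ne_zero
      rw [map_pow, map_pow, hn, ← hs, ← hs1, hpw, ← Nat.succ_eq_add_one, ← hn, hpE, add_zero]
    obtain ⟨j, hj⟩ := exists_pow_eq_self_of_coprime hco.symm
    have h1 : s1 = s := by
      rw [hs1, hs]
      calc φ (a * m * a⁻¹) = φ ((a * m * a⁻¹) ^ p) ^ j := by
            rw [← map_pow, ← pow_mul, conj_pow, pow_mul, hj]
        _ = φ m := by rw [hpp, ← map_pow, hj]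
    rw [← h1, hs1, ← map_mul, ← map_mul, h01 k hk m hm]
  refine trivial_of_commute φ hK.perf fun x hx y hy => ?_
  rcases hK.max T hTK hTn with h | h
  · exact (h hx).2 y hy
  -- the group would be nilpotent
  have hp' : IsPGroup p (↥K ⧸ center ↥K) := by
    intro z
    induction z using QuotientGroup.induction_on with
    | H g =>
      refine ⟨(orderOf g).factorization p, ?_⟩
      rw [← QuotientGroup.mk_pow, QuotientGroup.eq_one_iff, mem_center_iff]
      intro k
      apply Subtype.ext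
      show (k : G) * ((g ^ p ^ _ : ↥K) : G) = ((g ^ p ^ _ : ↥K) : G) * k
      refine (h _ (hcop _ (g ^ p ^ _).2 ?_) k k.2).symm
      rw [Subgroup.orderOf_coe, orderOf_pow, Nat.gcd_eq_right (Nat.ordProj_dvd _ _)]
      exact (Nat.coprime_comm.1 (Nat.coprime_ordCompl hp.out (orderOf_pos g).ne'))
  haveI := hp'.isNilpotent
  haveI hn : Group.IsNilpotent ↥K := Group.of_quotient_center_nilpotent inferInstance
  haveI : Group.IsPerfect ↥K := Subgroup.isPerfect_iff.2 hK.perf
  rcases subsingleton_or_nontrivial ↥K with hs | hs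
  · have hx1 : x = 1 := congrArg Subtype.val (Subsingleton.elim (⟨x, hx⟩ : ↥K) 1)
    rw [hx1, map_one, one_mul, mul_one]
  · exact absurd hn (Group.IsPerfect.not_isNilpotent ↥K)

/-- `p = 2`: `K` cannot fix `(a + 1) V` -/
theorem two_fix {K : Subgroup G} (hK : ⁅K, K⁆ = K) (a : G) (h2 : ∀ v : V, v + v = 0) (ha : a * a = 1)
    (hKa : ∀ x ∈ K, ∀ y ∈ K, x * (a * y * a) = a * y * a * x)
    (hfix : ∀ k ∈ K, ∀ v, φ k (φ a v + v) = φ a v + v) : ∀ k ∈ K, φ k = 1 := by
  have h2E : ∀ f : AddMonoid.End V, f + f = 0 := fun f => AddMonoidHom.ext fun v => h2 (f v)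
  have hneg : ∀ v : V, -v = v := fun v => neg_eq_of_add_eq_zero_left (h2 v)
  have hsq : ∀ k ∈ K, φ (k * k) = φ (a * (k * k) * a) := by
    intro k hk
    set A := φ a with hA
    set A' := φ (k⁻¹ * a * k) with hA'
    have f1 : ∀ v, A (A v + v) = A v + v := fun v => by
      rw [map_add, hA, ← phi_mul, ha, phi_one, add_comm]
    have f2 : ∀ v, A' v + v = A (φ k v) + φ k v := fun v => by
      rw [← hfix k⁻¹ (K.inv_mem hk) (φ k v), map_add, phi_inv_apply, hA', phi_mul, phi_mul]
    have f3 : ∀ v, A (A' v) = A v + A' v + v := fun v => by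
      have := f1 (φ k v)
      rw [← f2 v, map_add, ← eq_sub_iff_add_eq, sub_eq_add_neg, hneg] at this
      rw [this]; abel
    have f4 : ∀ v, A' (A v) = A v + A' v + v := fun v => by
      have e : A' (A v + v) = A v + v := by
        rw [hA', phi_mul, phi_mul, hfix k hk, ← hA, f1, hfix _ (K.inv_mem hk)]
      rw [map_add, ← eq_sub_iff_add_eq, sub_eq_add_neg, hneg] at e
      rw [e]; abel
    have hcom : φ (a * (k⁻¹ * a * k)) = φ (k⁻¹ * a * k * a) := AddMonoidHom.ext fun v => by
      show φ (a * (k⁻¹ * a * k)) v = φ (k⁻¹ * a * k * a) v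
      rw [phi_mul, phi_mul φ (k⁻¹ * a * k), ← hA, ← hA', f3, f4]
    have hsq1 : φ (a * (k⁻¹ * a * k) * (a * (k⁻¹ * a * k))) = 1 := by
      rw [map_mul φ (a * (k⁻¹ * a * k))]
      nth_rewrite 2 [hcom]
      rw [← map_mul, show a * (k⁻¹ * a * k) * (k⁻¹ * a * k * a) = a * (k⁻¹ * (a * a) * k) * a by group,
        ha, mul_one, inv_mul_cancel, mul_one, ha, map_one]
    set y := a * k⁻¹ * a with hy
    have hyk : k * y = y * k := hKa k hk k⁻¹ (K.inv_mem hk)
    rw [show a * (k⁻¹ * a * k) = y * k by rw [hy]; group,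
      show y * k * (y * k) = y * y * (k * k) by
        rw [← mul_assoc, mul_assoc y k y, hyk, ← mul_assoc, mul_assoc (y * y)], map_mul] at hsq1
    calc φ (k * k) = φ (a * (k * k) * a * (y * y)) * φ (k * k) := by
          have hainv : a⁻¹ = a := inv_eq_of_mul_eq_one_left ha
          rw [show a * (k * k) * a * (y * y) = 1 by
            rw [hy, show a * (k * k) * a * (a * k⁻¹ * a * (a * k⁻¹ * a)) =
              a * (k * k) * (a * a) * k⁻¹ * (a * a) * k⁻¹ * a by group, ha]
            calc a * (k * k) * 1 * k⁻¹ * 1 * k⁻¹ * a = a * a := by group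
              _ = 1 := ha, map_one, one_mul]
      _ = φ (a * (k * k) * a) * (φ (y * y) * φ (k * k)) := by rw [map_mul, mul_assoc]
      _ = φ (a * (k * k) * a) := by rw [hsq1, mul_one]
  let T : Subgroup G :=
    { carrier := {g | g ∈ K ∧ ∀ m ∈ K, φ g * φ m = φ m * φ g}
      one_mem' := ⟨K.one_mem, fun m _ => by rw [map_one, one_mul, mul_one]⟩
      mul_mem' := fun {x y} hx hy => ⟨K.mul_mem hx.1 hy.1, fun m hm => by
        rw [map_mul, mul_assoc, hy.2 m hm, ← mul_assoc, hx.2 m hm, mul_assoc]⟩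
      inv_mem' := fun {x} hx => ⟨K.inv_mem hx.1, fun m hm => by
        calc φ x⁻¹ * φ m = φ x⁻¹ * (φ m * φ x) * φ x⁻¹ := by
              rw [← map_mul, ← map_mul, ← map_mul, ← map_mul]; congr 1; group
          _ = φ x⁻¹ * (φ x * φ m) * φ x⁻¹ := by rw [hx.2 m hm]
          _ = φ m * φ x⁻¹ := by
              rw [← map_mul, ← map_mul, ← map_mul, ← map_mul]; congr 1; group⟩ }
  have hsT : ∀ k ∈ K, k * k ∈ T := fun k hk => ⟨K.mul_mem hk hk, fun m hm => by
    rw [hsq k hk, ← map_mul, ← map_mul, hKa m hm _ (K.mul_mem hk hk)]⟩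
  have hle : K ≤ T := by
    conv_lhs => rw [← hK]
    rw [commutator_le]
    intro x hx y hy
    have e : ⁅x, y⁆ = x * x * (x⁻¹ * y * (x⁻¹ * y)) * (y⁻¹ * y⁻¹) := by
      rw [commutatorElement_def]; group
    rw [e]
    exact T.mul_mem (T.mul_mem (hsT x hx) (hsT _ (K.mul_mem (K.inv_mem hx) hy))) (hsT _ (K.inv_mem hy))
  exact trivial_of_commute φ hK fun x hx y hy => (hle hx).2 y hy

/-- the diagonal fixes `(a + 1) V`: from an element normalising `K` -/
theorem diag_fix_moved {K : Subgroup G} (hK : Good K) (a b : G) (h2 : ∀ v : V, v + v = 0)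
    (ha : a * a = 1) (hKa : ∀ x ∈ K, ∀ y ∈ K, x * (a * y * a) = a * y * a * x)
    (hb : ∀ k ∈ K, b * k * b⁻¹ ∈ K) (hba : b * a = a * b) (hne : ∃ k ∈ K, b * k * b⁻¹ ≠ k)
    (hIb : ∀ v, φ b (φ a v + v) = φ a v + v) :
    ∀ k ∈ K, ∀ v, φ (k * (a * k * a)) (φ a v + v) = φ a v + v := by
  have hcomm : ∀ k ∈ K, ∀ v, φ (k * (a * k * a)) (φ a v + v) =
      φ a (φ (k * (a * k * a)) v) + φ (k * (a * k * a)) v := by
    intro k hk v
    have e : k * (a * k * a) * a = a * (k * (a * k * a)) := by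
      have h1 : k * (a * k * a) = a * k * a * k := hKa k hk k hk
      calc k * (a * k * a) * a = k * a * k * (a * a) := by group
        _ = (a * a) * k * a * k := by rw [ha, mul_one, one_mul]
        _ = a * (a * k * a * k) := by group
        _ = _ := by rw [← h1]
    rw [map_add, ← phi_mul, e, phi_mul]
  let T : Subgroup G :=
    { carrier := {g | g ∈ K ∧ ∀ v, φ (g * (a * g * a)) (φ a v + v) = φ a v + v}
      one_mem' := ⟨K.one_mem, fun v => by rw [one_mul, mul_one, ha, phi_one]⟩
      mul_mem' := fun {x y} hx hy => ⟨K.mul_mem hx.1 hy.1, fun v => by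
        have e : x * y * (a * (x * y) * a) = x * (a * x * a) * (y * (a * y * a)) := by
          calc x * y * (a * (x * y) * a) = x * y * (a * x * (a * a) * y * a) := by rw [ha]; group
            _ = x * (y * (a * x * a)) * (a * y * a) := by group
            _ = _ := by rw [hKa y hy.1 x hx.1]; group
        rw [e, phi_mul, hy.2, hx.2]⟩
      inv_mem' := fun {x} hx => ⟨K.inv_mem hx.1, fun v => by
        have e : x⁻¹ * (a * x⁻¹ * a) = (x * (a * x * a))⁻¹ := by
          have hainv : a⁻¹ = a := inv_eq_of_mul_eq_one_left ha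
          rw [hKa x hx.1 x hx.1]
          simp only [mul_inv_rev, hainv, mul_assoc]
        calc φ (x⁻¹ * (a * x⁻¹ * a)) (φ a v + v)
            = φ (x⁻¹ * (a * x⁻¹ * a)) (φ (x * (a * x * a)) (φ a v + v)) := by rw [hx.2]
          _ = φ a v + v := by rw [e, phi_inv_apply]⟩ }
  intro k hk
  have hle : K ≤ T := by
    refine (hK.gen_of_moved hb hne).trans ((closure_le _).2 ?_)
    rintro _ ⟨m, hm, rfl⟩
    set d := m * (a * m * a) with hd
    refine ⟨K.mul_mem (K.inv_mem hm) (hb m hm), fun v => ?_⟩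
    have h1 : ∀ w, φ b (φ d (φ a w + w)) = φ d (φ a w + w) := fun w => by
      rw [hd, hcomm m hm, hIb]
    have hbi : φ b⁻¹ (φ a v + v) = φ a v + v := by
      conv_lhs => rw [← hIb v, phi_inv_apply]
    have h3 : φ (b * m * b⁻¹ * (a * (b * m * b⁻¹) * a)) (φ a v + v) = φ d (φ a v + v) := by
      have hba' : b⁻¹ * a = a * b⁻¹ := by
        rw [inv_mul_eq_iff_eq_mul, ← mul_assoc, hba, mul_inv_cancel_right]
      have e : b * m * b⁻¹ * (a * (b * m * b⁻¹) * a) = b * d * b⁻¹ := by
        rw [hd]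
        calc b * m * b⁻¹ * (a * (b * m * b⁻¹) * a) = b * m * b⁻¹ * ((a * b) * m * (b⁻¹ * a)) := by group
          _ = b * m * b⁻¹ * ((b * a) * m * (a * b⁻¹)) := by rw [hba, hba']
          _ = _ := by group
      rw [e, phi_mul, hbi, phi_mul, h1]
    have e4 : m⁻¹ * (b * m * b⁻¹) * (a * (m⁻¹ * (b * m * b⁻¹)) * a) =
        d⁻¹ * (b * m * b⁻¹ * (a * (b * m * b⁻¹) * a)) := by
      have hainv : a⁻¹ = a := inv_eq_of_mul_eq_one_left ha
      have hdi : d⁻¹ = m⁻¹ * (a * m⁻¹ * a) := by
        rw [hd, hKa m hm m hm]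
        simp only [mul_inv_rev, hainv, mul_assoc]
      rw [hdi]
      calc m⁻¹ * (b * m * b⁻¹) * (a * (m⁻¹ * (b * m * b⁻¹)) * a)
          = m⁻¹ * ((b * m * b⁻¹) * (a * m⁻¹ * a)) * (a⁻¹ * (b * m * b⁻¹) * a) := by group
        _ = m⁻¹ * ((a * m⁻¹ * a) * (b * m * b⁻¹)) * (a⁻¹ * (b * m * b⁻¹) * a) := by
            rw [hKa _ (hb m hm) m⁻¹ (K.inv_mem hm)]
        _ = _ := by rw [hainv]; group
    rw [e4, phi_mul, h3, phi_inv_apply]
  exact (hle hk).2

/-- the predicate carried along in the counting case -/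
def CountHyp (K : Subgroup G) (a : G) (B : Subgroup G) (n : ℕ) (V : Type v) [AddCommGroup V] [Finite V]
    (φ : G →* AddMonoid.End V) : Prop :=
  (∀ v : V, v + v = 0) ∧ (∀ b ∈ B, ∀ v, φ b (φ a v + v) = φ a v + v) ∧
  (∀ k ∈ K, ∀ v, φ (k * (a * k * a)) (φ a v + v) = φ a v + v) ∧
  (∀ b ∈ B, (∀ k ∈ K, b * k * b⁻¹ = k) → φ b = 1) ∧
  Nat.card V ≤ 2 * n * Nat.card {v : V // ∀ b ∈ B, φ b v = v} ∧
  (n ≤ 1 → Nat.card (trRange φ a) ≤ 2)

/-- `p = 2`: the counting case -/
theorem two_count {K : Subgroup G} (hK : Good K) (a : G) (B : Subgroup G) (ha : a * a = 1)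
    (hgen : closure ((K : Set G) ∪ B ∪ {a}) = ⊤)
    (hKa : ∀ x ∈ K, ∀ y ∈ K, x * (a * y * a) = a * y * a * x)
    (hBK : ∀ b ∈ B, ∀ k ∈ K, b * k * b⁻¹ ∈ K) (hBa : ∀ b ∈ B, b * a = a * b)
    (hB2 : ∀ b ∈ B, b * b = 1) (hBc : ∀ b ∈ B, ∀ c ∈ B, b * c = c * b) (n : ℕ)
    (hn : n = Nat.card (Set.range fun b : B => fun k : K => (b : G) * k * (b : G)⁻¹))
    (h : CountHyp K a B n V φ) : ∀ k ∈ K, φ k = 1 := by
  refine of_irreducible φ hK.perf (fun W [AddCommGroup W] [Finite W] ψ => CountHyp K a B n W ψ)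
    ?_ ?_ ?_ h
  · -- invariant subgroups
    intro V _ _ φ W hW ⟨h2, hI, hD, h1, hcnt, hs⟩
    refine ⟨fun w => Subtype.ext (h2 w), fun b hb w => Subtype.ext (hI b hb w),
      fun k hk w => Subtype.ext (hD k hk w),
      fun b hb hc => AddMonoidHom.ext fun w => Subtype.ext (by show φ b w.1 = w.1; rw [h1 b hb hc]; rfl),
      ?_, fun hn1 => le_trans ?_ (hs hn1)⟩
    · let F : AddSubgroup V :=
        { carrier := {v | ∀ b ∈ B, φ b v = v}
          zero_mem' := fun b _ => map_zero _
          add_mem' := fun {x y} hx hy b hb => by rw [map_add, hx b hb, hy b hb]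
          neg_mem' := fun {x} hx b hb => by rw [map_neg, hx b hb] }
      have hF : Nat.card {v : V // ∀ b ∈ B, φ b v = v} = Nat.card F := rfl
      rw [hF] at hcnt
      have h1 : Nat.card W * Nat.card F ≤ Nat.card V * Nat.card ↥(W ⊓ F) := by
        classical
        let g : W × F → V := fun x => (x.1 : V) + x.2
        let rep : Set.range g → W × F := fun z => z.2.choose
        have hrep : ∀ z, g (rep z) = z := fun z => z.2.choose_spec
        rw [← Nat.card_prod, ← Nat.card_prod]
        refine Nat.card_le_card_of_injective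
          (fun x => (g x, (⟨(x.1 : V) - (rep ⟨g x, x, rfl⟩).1, W.sub_mem x.1.2 (rep ⟨g x, x, rfl⟩).1.2, by
            have e := hrep ⟨g x, x, rfl⟩
            change ((rep ⟨g x, x, rfl⟩).1 : V) + (rep ⟨g x, x, rfl⟩).2 = x.1 + x.2 at e
            have : (x.1 : V) - (rep ⟨g x, x, rfl⟩).1 = (rep ⟨g x, x, rfl⟩).2 - x.2 := by
              rw [sub_eq_sub_iff_add_eq_add, ← e, add_comm]
            rw [this]
            exact F.sub_mem (rep ⟨g x, x, rfl⟩).2.2 x.2.2⟩ : ↥(W ⊓ F)))) ?_
        intro x y hxy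
        have h0 := (Prod.ext_iff.1 hxy).1
        have h1 : (x.1 : V) - (rep ⟨g x, x, rfl⟩).1 = (y.1 : V) - (rep ⟨g y, y, rfl⟩).1 :=
          congrArg Subtype.val (Prod.ext_iff.1 hxy).2
        have hr : rep ⟨g x, x, rfl⟩ = rep ⟨g y, y, rfl⟩ := congrArg rep (Subtype.ext h0)
        rw [hr, sub_left_inj] at h1
        refine Prod.ext (Subtype.ext h1) (Subtype.ext ?_)
        have h0' : (x.1 : V) + x.2 = y.1 + y.2 := h0
        rw [h1] at h0'
        exact add_left_cancel h0'
      have h2' : Nat.card ↥(W ⊓ F) ≤ Nat.card {w : ↥W // ∀ b ∈ B, sub φ W hW b w = w} :=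
        Nat.card_le_card_of_injective
          (fun x : ↥(W ⊓ F) => (⟨⟨x.1, x.2.1⟩, fun b hb => Subtype.ext (x.2.2 b hb)⟩ :
            {w : ↥W // ∀ b ∈ B, sub φ W hW b w = w}))
          (fun x y e => Subtype.ext (congrArg (fun z : {w : ↥W // ∀ b ∈ B, sub φ W hW b w = w} =>
            ((z : ↥W) : V)) e))
      refine Nat.le_of_mul_le_mul_right ?_ (Nat.card_pos (α := F))
      calc Nat.card W * Nat.card F ≤ Nat.card V * Nat.card ↥(W ⊓ F) := h1
        _ ≤ 2 * n * Nat.card F * Nat.card {w : ↥W // ∀ b ∈ B, sub φ W hW b w = w} := by gcongr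
        _ = _ := by ring
    · exact Nat.card_le_card_of_injective (fun x : trRange (sub φ W hW) a => (⟨(x : ↥W), by
        obtain ⟨w, hw⟩ := mem_trRange.1 x.2
        exact mem_trRange.2 ⟨w, congrArg Subtype.val hw⟩⟩ : trRange φ a))
        (fun x y e => Subtype.ext (Subtype.ext (congrArg (fun z : trRange φ a => (z : V)) e)))
  · -- quotients
    intro V _ _ φ W hW ⟨h2, hI, hD, h1, hcnt, hs⟩
    refine ⟨fun x => ?_, fun b hb x => ?_, fun k hk x => ?_, fun b hb hc => AddMonoidHom.ext fun x => ?_,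
      ?_, fun hn1 => le_trans ?_ (hs hn1)⟩
    · induction x using QuotientAddGroup.induction_on with
      | H v => show ((v + v : V) : V ⧸ W) = 0; rw [h2]; rfl
    · induction x using QuotientAddGroup.induction_on with
      | H v => show ((φ b (φ a v + v) : V) : V ⧸ W) = ((φ a v + v : V) : V ⧸ W); rw [hI b hb]
    · induction x using QuotientAddGroup.induction_on with
      | H v =>
        show ((φ (k * (a * k * a)) (φ a v + v) : V) : V ⧸ W) = ((φ a v + v : V) : V ⧸ W)
        rw [hD k hk]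
    · induction x using QuotientAddGroup.induction_on with
      | H v => show ((φ b v : V) : V ⧸ W) = (v : V ⧸ W); rw [h1 b hb hc]; rfl
    · let F := {v : V // ∀ b ∈ B, φ b v = v}
      let F' := {x : V ⧸ W // ∀ b ∈ B, quo φ W hW b x = x}
      have h1' : Nat.card F ≤ Nat.card F' * Nat.card W := by
        classical
        let g : F → F' := fun v => ⟨((v : V) : V ⧸ W), fun b hb => by rw [quo_apply, v.2 b hb]⟩
        let rep : Set.range g → F := fun z => z.2.choose
        have hrep : ∀ z, g (rep z) = z := fun z => z.2.choose_spec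
        rw [← Nat.card_prod]
        refine Nat.card_le_card_of_injective
          (fun v => (g v, (⟨(v : V) - (rep ⟨g v, v, rfl⟩ : F).1, by
            have e := congrArg Subtype.val (hrep ⟨g v, v, rfl⟩)
            exact QuotientAddGroup.eq_iff_sub_mem.1 e.symm⟩ : ↥W))) ?_
        intro x y hxy
        have h0 := (Prod.ext_iff.1 hxy).1
        have h1 : (x : V) - (rep ⟨g x, x, rfl⟩).1 = (y : V) - (rep ⟨g y, y, rfl⟩).1 :=
          congrArg Subtype.val (Prod.ext_iff.1 hxy).2
        rw [show rep ⟨g x, x, rfl⟩ = rep ⟨g y, y, rfl⟩ from congrArg rep (Subtype.ext h0),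
          sub_left_inj] at h1
        exact Subtype.ext h1
      refine Nat.le_of_mul_le_mul_right ?_ (Nat.card_pos (α := W))
      rw [← AddSubgroup.card_eq_card_quotient_mul_card_addSubgroup W]
      calc Nat.card V ≤ 2 * n * Nat.card F := hcnt
        _ ≤ 2 * n * (Nat.card F' * Nat.card W) := by gcongr
        _ = _ := by ring
    · refine Nat.card_le_card_of_surjective (fun x : trRange φ a => (⟨((x : V) : V ⧸ W), by
        obtain ⟨w, hw⟩ := mem_trRange.1 x.2
        exact mem_trRange.2 ⟨(w : V ⧸ W), congrArg (fun z : V => (z : V ⧸ W)) hw⟩⟩ :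
          trRange (quo φ W hW) a)) ?_
      rintro ⟨z, hz⟩
      obtain ⟨w, rfl⟩ := mem_trRange.1 hz
      induction w using QuotientAddGroup.induction_on with
      | H v => exact ⟨⟨φ a v + v, mem_trRange.2 ⟨v, rfl⟩⟩, rfl⟩
  · -- no invariant subgroup
    intro V _ _ φ ⟨h2, hI, hD, h1, hcnt, hs⟩ hirr
    by_cases hnc : ∃ x ∈ K, ∃ y ∈ K, φ x * φ y ≠ φ y * φ x
    swap
    · push Not at hnc
      exact trivial_of_commute φ hK.perf hnc
    by_cases hne : ∃ v, φ a v + v ≠ 0
    swap
    · push Not at hne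
      refine two_fix φ hK.perf a h2 ha hKa fun k _ v => ?_
      rw [hne v, map_zero]
    obtain ⟨hrange, hdis, -, hsmall⟩ := bridge h2 φ K a B ha hgen hirr hKa hBK hBa hB2 hBc hI hD hne hnc
    by_contra hnon
    have hnq : n ≤ Nat.card (trRange φ a) := by
      refine le_trans ?_ hrange
      rw [hn]
      let f : Set.range (fun b : B => fun k : K => (b : G) * k * (b : G)⁻¹) →
          Set.range (fun b : B => φ (b : G)) := fun z => ⟨_, ⟨z.2.choose, rfl⟩⟩
      refine Nat.card_le_card_of_injective f fun z z' e => Subtype.ext ?_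
      rw [← z.2.choose_spec, ← z'.2.choose_spec]
      set b := z.2.choose
      set c := z'.2.choose
      have e' : φ (b : G) = φ (c : G) := congrArg Subtype.val e
      have hbc : φ ((c : G)⁻¹ * b) = 1 := by
        rw [map_mul, e', ← map_mul, inv_mul_cancel, map_one]
      have hbcB : (c : G)⁻¹ * b ∈ B := B.mul_mem (B.inv_mem c.2) b.2
      funext k
      by_contra hk
      apply hnon
      refine trivial_of_moved φ hK (hBK _ hbcB) ⟨k, k.2, fun h => hk ?_⟩ fun m _ => ?_
      · calc (b : G) * k * (b : G)⁻¹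
            = (c : G) * ((c : G)⁻¹ * b * k * ((c : G)⁻¹ * b)⁻¹) * (c : G)⁻¹ := by group
          _ = _ := by rw [h]
      · have hbi : φ ((c : G)⁻¹ * b)⁻¹ = 1 := by
          calc φ ((c : G)⁻¹ * b)⁻¹ = φ ((c : G)⁻¹ * b)⁻¹ * φ ((c : G)⁻¹ * b) := by rw [hbc, mul_one]
            _ = 1 := by rw [← map_mul, inv_mul_cancel, map_one]
        rw [map_mul, map_mul, hbc, hbi, one_mul, mul_one]
    have hq2 : Nat.card (trRange φ a) ≤ 2 := by
      rcases hdis with htriv | hbig
      · refine hs ?_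
        have hone : ∀ b : B, (fun k : K => (b : G) * k * (b : G)⁻¹) = fun k : K => (k : G) := by
          intro b
          funext k
          by_contra hk
          exact hnon (trivial_of_moved φ hK (hBK b b.2) ⟨k, k.2, hk⟩ (htriv b b.2))
        rw [hn]
        refine Finite.card_le_one_iff_subsingleton.2 ⟨fun z z' => Subtype.ext ?_⟩
        obtain ⟨b, hb⟩ := z.2
        obtain ⟨c, hc⟩ := z'.2
        rw [← hb, ← hc]
        show (fun k : K => (b : G) * k * (b : G)⁻¹) = fun k : K => (c : G) * k * (c : G)⁻¹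
        rw [hone b, hone c]
      · have hpos : 0 < Nat.card {v : V // ∀ b ∈ B, φ b v = v} :=
          @Nat.card_pos _ ⟨⟨0, fun b _ => map_zero _⟩⟩ _
        have h3 := le_trans hbig hcnt
        have h4 : Nat.card (trRange φ a) * Nat.card (trRange φ a) ≤ 2 * n :=
          Nat.le_of_mul_le_mul_right h3 hpos
        nlinarith
    exact hnon (trivial_of_small_orders φ hK.perf (hsmall hq2))

/-- the predicate carried along in the case of four components -/
def FourHyp (a c : G) (V : Type v) [AddCommGroup V] [Finite V] (φ : G →* AddMonoid.End V) : Prop :=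
  (∀ v : V, v + v = 0) ∧ ∀ v, φ c (φ a v + v) = φ a v + v

/-- `p = 2`: four components -/
theorem two_four {K : Subgroup G} (hK : Good K) (a c : G) (ha : a * a = 1) (hc : c * c = 1)
    (hac : c * a = a * c)
    (hgen : closure ((closure ((K : Set G) ∪ {z | ∃ k ∈ K, z = c * k * c}) : Set G) ∪
      (zpowers c : Subgroup G) ∪ {a}) = ⊤)
    (h1 : ∀ x ∈ K, ∀ y ∈ K, x * (a * y * a) = a * y * a * x)
    (h2 : ∀ x ∈ K, ∀ y ∈ K, x * (c * y * c) = c * y * c * x)
    (h3 : ∀ x ∈ K, ∀ y ∈ K, x * (a * (c * y * c) * a) = a * (c * y * c) * a * x)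
    (h : FourHyp a c V φ) : ∀ k ∈ K, φ k = 1 := by
  have hca : ∀ g, c * (a * g * a) * c = a * (c * g * c) * a := fun g => by
    calc c * (a * g * a) * c = (c * a) * g * (a * c) := by group
      _ = (a * c) * g * (c * a) := by rw [hac]
      _ = _ := by group
  have hcc : ∀ x y, (c * x * c) * (c * y * c) = c * (x * y) * c := fun x y => by
    calc (c * x * c) * (c * y * c) = c * x * (c * c) * y * c := by group
      _ = _ := by rw [hc]; group
  have haa : ∀ x y, (a * x * a) * (a * y * a) = a * (x * y) * a := fun x y => by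
    calc (a * x * a) * (a * y * a) = a * x * (a * a) * y * a := by group
      _ = _ := by rw [ha]; group
  -- the pairs
  have h3' : ∀ x ∈ K, ∀ y ∈ K, (c * x * c) * (a * y * a) = (a * y * a) * (c * x * c) := by
    intro x hx y hy
    have h := congrArg (fun g => a * g * a) (h3 y hy x hx)
    have haz : ∀ z, a * (a * z) = z := fun z => by rw [← mul_assoc, ha, one_mul]
    simp only [mul_assoc, ha, mul_one, haz] at h ⊢
    exact h.symm
  have h4 : ∀ x ∈ K, ∀ y ∈ K,
      (c * x * c) * (a * (c * y * c) * a) = (a * (c * y * c) * a) * (c * x * c) := by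
    intro x hx y hy
    rw [← hca y, hcc, hcc, h1 x hx y hy]
  refine of_irreducible φ hK.perf (fun W [AddCommGroup W] [Finite W] ψ => FourHyp a c W ψ) ?_ ?_ ?_ h
  · intro V _ _ φ W hW ⟨ht, hI⟩
    exact ⟨fun w => Subtype.ext (ht w), fun w => Subtype.ext (hI w)⟩
  · intro V _ _ φ W hW ⟨ht, hI⟩
    refine ⟨fun x => ?_, fun x => ?_⟩
    · induction x using QuotientAddGroup.induction_on with
      | H v => show ((v + v : V) : V ⧸ W) = 0; rw [ht]; rfl
    · induction x using QuotientAddGroup.induction_on with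
      | H v => show ((φ c (φ a v + v) : V) : V ⧸ W) = ((φ a v + v : V) : V ⧸ W); rw [hI]
  intro V _ _ φ ⟨ht, hI⟩ hirr
  by_cases hne : ∃ v, φ a v + v ≠ 0
  swap
  · push Not at hne
    refine two_fix φ hK.perf a ht ha h1 fun k _ v => ?_
    rw [hne v, map_zero]
  set K' := closure ((K : Set G) ∪ {z | ∃ k ∈ K, z = c * k * c}) with hK'
  have hKK' : K ≤ K' := fun k hk => subset_closure (Or.inl hk)
  by_cases hnc : ∃ x ∈ K', ∃ y ∈ K', φ x * φ y ≠ φ y * φ x
  swap
  · push Not at hnc
    exact trivial_of_commute φ hK.perf fun x hx y hy => hnc x (hKK' hx) y (hKK' hy)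
  -- `K'` commutes with its conjugate
  have hbase : ∀ s ∈ ((K : Set G) ∪ {z | ∃ k ∈ K, z = c * k * c}),
      ∀ t ∈ ((K : Set G) ∪ {z | ∃ k ∈ K, z = c * k * c}), s * (a * t * a) = a * t * a * s := by
    rintro s (hs | ⟨x, hx, rfl⟩) t (ht | ⟨y, hy, rfl⟩)
    · exact h1 s hs t ht
    · exact h3 s hs y hy
    · exact h3' x hx t ht
    · exact h4 x hx y hy
  have hKa' : ∀ x ∈ K', ∀ y ∈ K', x * (a * y * a) = a * y * a * x := by
    intro x hx y hy
    induction hy using closure_induction with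
    | mem t ht =>
      induction hx using closure_induction with
      | mem s hs => exact hbase s hs t ht
      | one => rw [one_mul, mul_one]
      | mul u w _ _ hu hw => rw [mul_assoc, hw, ← mul_assoc, hu, mul_assoc]
      | inv u _ hu => exact (Commute.inv_left (show Commute u (a * t * a) from hu)).eq
    | one => rw [mul_one, ha, mul_one, one_mul]
    | mul u w _ _ hu hw => rw [← haa, ← mul_assoc, hu, mul_assoc, hw, ← mul_assoc]
    | inv u _ hu =>
      have hainv : a⁻¹ = a := inv_eq_of_mul_eq_one_left ha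
      rw [show a * u⁻¹ * a = (a⁻¹ * u * a⁻¹)⁻¹ by group, hainv]
      exact (Commute.inv_right (show Commute x (a * u * a) from hu)).eq
  have hcn : ∀ k ∈ K', c * k * c ∈ K' := by
    intro k hk
    induction hk using closure_induction with
    | mem s hs =>
      rcases hs with hs | ⟨x, hx, rfl⟩
      · exact subset_closure (Or.inr ⟨s, hs, rfl⟩)
      · rw [show c * (c * x * c) * c = (c * c) * x * (c * c) by group, hc, one_mul, mul_one]
        exact hKK' hx
    | one => rw [mul_one, hc]; exact K'.one_mem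
    | mul u w _ _ hu hw => rw [← hcc]; exact K'.mul_mem hu hw
    | inv u _ hu =>
      have hcinv : c⁻¹ = c := inv_eq_of_mul_eq_one_left hc
      rw [show c * u⁻¹ * c = (c⁻¹ * u * c⁻¹)⁻¹ by group, hcinv]; exact K'.inv_mem hu
  have hci : ∀ v, φ c (φ a v + v) = φ a v + v := hI
  -- the diagonal of `K` fixes the traces
  set j' : G → G := fun k => k * (a * k * a) with hj'
  have hdI : ∀ k ∈ K', ∀ v, φ (j' k) (φ a v + v) = φ a (φ (j' k) v) + φ (j' k) v := by
    intro k hk v
    have e : j' k * a = a * j' k := by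
      have h1' : k * (a * k * a) = a * k * a * k := hKa' k hk k hk
      calc k * (a * k * a) * a = k * a * k * (a * a) := by group
        _ = (a * a) * k * a * k := by rw [ha, mul_one, one_mul]
        _ = a * (a * k * a * k) := by group
        _ = _ := by rw [← h1']
    rw [map_add, ← phi_mul, e, phi_mul]
  let T : Subgroup G :=
    { carrier := {g | g ∈ K' ∧ ∀ v, φ (j' g) (φ a v + v) = φ a v + v}
      one_mem' := ⟨K'.one_mem, fun v => by
        show φ (1 * (a * 1 * a)) _ = _
        rw [one_mul, mul_one, ha, phi_one]⟩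
      mul_mem' := fun {x y} hx hy => ⟨K'.mul_mem hx.1 hy.1, fun v => by
        have e : j' (x * y) = j' x * j' y := by
          calc x * y * (a * (x * y) * a) = x * y * (a * x * (a * a) * y * a) := by rw [ha]; group
            _ = x * (y * (a * x * a)) * (a * y * a) := by group
            _ = _ := by rw [hKa' y hy.1 x hx.1]; simp only [hj']; group
        rw [e, phi_mul, hy.2, hx.2]⟩
      inv_mem' := fun {x} hx => ⟨K'.inv_mem hx.1, fun v => by
        have e : j' x⁻¹ = (j' x)⁻¹ := by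
          have hainv : a⁻¹ = a := inv_eq_of_mul_eq_one_left ha
          show x⁻¹ * (a * x⁻¹ * a) = (x * (a * x * a))⁻¹
          rw [hKa' x hx.1 x hx.1]
          simp only [mul_inv_rev, hainv, mul_assoc]
        calc φ (j' x⁻¹) (φ a v + v) = φ (j' x⁻¹) (φ (j' x) (φ a v + v)) := by rw [hx.2]
          _ = φ a v + v := by rw [e, phi_inv_apply]⟩ }
  have hjc : ∀ k, c * j' k * c = j' (c * k * c) := fun k => by
    show c * (k * (a * k * a)) * c = _
    rw [← hcc, hca]
  have hcfix : ∀ k ∈ K', ∀ v, φ (j' (c * k * c)) (φ a v + v) = φ (j' k) (φ a v + v) := fun k hk v => by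
    rw [← hjc, phi_mul, hci, phi_mul, hdI k hk, hci]
  have hswap : ∀ n ∈ K, ∀ k ∈ K, j' n * j' (c * k * c) = j' (c * k * c) * j' n := by
    intro n hn k hk
    have e1 := h2 n hn k hk
    have e2 := h3 n hn k hk
    have e3 : (a * n * a) * (c * k * c) = c * k * c * (a * n * a) := (h3' k hk n hn).symm
    have e4 : (a * n * a) * (a * (c * k * c) * a) = a * (c * k * c) * a * (a * n * a) := by
      rw [haa, haa, e1]
    exact (Commute.mul_left (Commute.mul_right e1 e2) (Commute.mul_right e3 e4)).eq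
  have hKT : K ≤ T := by
    conv_lhs => rw [← hK.perf]
    rw [commutator_le]
    intro x hx y hy
    have hxy : ∀ v, φ (j' x) (φ (j' y) (φ a v + v)) = φ (j' y) (φ (j' x) (φ a v + v)) := by
      intro v
      calc φ (j' x) (φ (j' y) (φ a v + v)) = φ (j' x) (φ (j' (c * y * c)) (φ a v + v)) := by
            rw [hcfix y (hKK' hy)]
        _ = φ (j' (c * y * c)) (φ (j' x) (φ a v + v)) := by
            rw [← phi_mul, hswap x hx y hy, phi_mul]
        _ = _ := by rw [hdI x (hKK' hx), hcfix y (hKK' hy), ← hdI x (hKK' hx)]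
    refine ⟨hKK' (hK.perf ▸ commutator_mem_commutator hx hy), fun v => ?_⟩
    have hmul : ∀ p ∈ K', ∀ q ∈ K', j' (p * q) = j' p * j' q := by
      intro p hp q hq
      calc p * q * (a * (p * q) * a) = p * q * (a * p * (a * a) * q * a) := by rw [ha]; group
        _ = p * (q * (a * p * a)) * (a * q * a) := by group
        _ = _ := by rw [hKa' q hq p hp]; simp only [hj']; group
    have hinv : ∀ p ∈ K', ∀ w, φ (j' p⁻¹) (φ (j' p) w) = w := by
      intro p hp w
      rw [← phi_mul, ← hmul _ (K'.inv_mem hp) p hp, inv_mul_cancel]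
      show φ (1 * (a * 1 * a)) w = w
      rw [one_mul, mul_one, ha, phi_one]
    have hinv' : ∀ p ∈ K', ∀ w, φ (j' p) (φ (j' p⁻¹) w) = w := by
      intro p hp w
      have := hinv p⁻¹ (K'.inv_mem hp) w
      rwa [inv_inv] at this
    have hxK := hKK' hx
    have hyK := hKK' hy
    rw [commutatorElement_def, hmul _ (K'.mul_mem (K'.mul_mem hxK hyK) (K'.inv_mem hxK)) _ (K'.inv_mem hyK),
      hmul _ (K'.mul_mem hxK hyK) _ (K'.inv_mem hxK), hmul _ hxK _ hyK, phi_mul, phi_mul, phi_mul,
      hdI _ (K'.inv_mem hyK), hdI _ (K'.inv_mem hxK), hxy, ← hdI _ (K'.inv_mem hxK),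
      hinv' x hxK, ← hdI _ (K'.inv_mem hyK), hinv' y hyK]
  have hD : ∀ k ∈ K', ∀ v, φ (k * (a * k * a)) (φ a v + v) = φ a v + v := by
    have hle : K' ≤ T := by
      rw [hK', closure_le]
      rintro s (hs | ⟨x, hx, rfl⟩)
      · exact hKT hs
      · exact ⟨hcn x (hKK' hx), fun v => by rw [hcfix x (hKK' hx)]; exact (hKT hx).2 v⟩
    exact fun k hk => (hle hk).2
  have hB : ∀ b ∈ zpowers c, b = 1 ∨ b = c := by
    intro b hb
    obtain ⟨i, rfl⟩ := mem_zpowers_iff.1 hb
    rcases Int.even_or_odd' i with ⟨t, rfl | rfl⟩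
    · left; rw [zpow_mul, zpow_two, hc, one_zpow]
    · right; rw [zpow_add, zpow_mul, zpow_two, hc, one_zpow, one_mul, zpow_one]
  have hcinv : c⁻¹ = c := inv_eq_of_mul_eq_one_left hc
  obtain ⟨-, -, hcom, -⟩ := bridge ht φ K' a (zpowers c) ha hgen hirr hKa'
    (fun b hb k hk => by
      rcases hB b hb with rfl | rfl
      · simpa using hk
      · rw [hcinv]; exact hcn k hk)
    (fun b hb => by rcases hB b hb with rfl | rfl
                    · rw [one_mul, mul_one]
                    · exact hac)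
    (fun b hb => by rcases hB b hb with rfl | rfl
                    · exact one_mul 1
                    · exact hc)
    (fun b hb b' hb' => by rcases hB b hb with rfl | rfl <;> rcases hB b' hb' with rfl | rfl <;> simp)
    (fun b hb v => by rcases hB b hb with rfl | rfl
                      · rw [phi_one]
                      · exact hI v)
    hD hne hnc
  refine trivial_of_commute φ hK.perf fun k hk m hm => ?_
  have hk2 : φ k * φ (c * k * c⁻¹) = φ (c * k * c⁻¹) * φ k := by
    rw [hcinv, ← map_mul, ← map_mul, h2 k hk k hk]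
  have := hcom c (mem_zpowers c) k (hKK' hk) hk2 m (hKK' hm)
  have hm2 : φ (c * k * c⁻¹) * φ m = φ m * φ (c * k * c⁻¹) := by
    rw [hcinv, ← map_mul, ← map_mul, h2 m hm k hk]
  rw [add_mul, mul_add, hm2] at this
  exact add_left_cancel this

end Cfsg.Lib.Components.Timmesfeld
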