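import Cfsg.Agent.Components.Timmesfeld.Leaves

/-!
Offenders normalise components.
-/

namespace Cfsg.Lib.Components.Timmesfeld

open Subgroup
open scoped commutatorElement

universe u v

variable {G : Type u} [Group G] [Finite G] {V : Type v} [AddCommGroup V] [Finite V]
  (φ : G →* AddMonoid.End V)

/-- the product formula inequality -/
theorem card_mul_le {M : Type*} [Group M] [Finite M] (H K : Subgroup M) :
    Nat.card H * Nat.card K ≤ Nat.card ↥(H ⊓ K) * Nat.card ↥(H ⊔ K) := by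
  classical
  let g : H × K → ↥(H ⊔ K) := fun x =>
    ⟨(x.1 : M) * x.2, mul_mem (mem_sup_left x.1.2) (mem_sup_right x.2.2)⟩
  let rep : Set.range g → H × K := fun z => z.2.choose
  have hrep : ∀ z, g (rep z) = z := fun z => z.2.choose_spec
  rw [← Nat.card_prod, ← Nat.card_prod]
  refine Nat.card_le_card_of_injective
    (fun x => ((⟨(((rep ⟨g x, x, rfl⟩).1 : H) : M)⁻¹ * x.1, by
      refine ⟨H.mul_mem (H.inv_mem (rep ⟨g x, x, rfl⟩).1.2) x.1.2, ?_⟩
      have e : (((rep ⟨g x, x, rfl⟩).1 : H) : M) * (rep ⟨g x, x, rfl⟩).2 = x.1 * x.2 :=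
        congrArg Subtype.val (hrep ⟨g x, x, rfl⟩)
      have e' : (((rep ⟨g x, x, rfl⟩).1 : H) : M)⁻¹ * x.1 =
          (rep ⟨g x, x, rfl⟩).2 * (x.2 : M)⁻¹ := by
        rw [inv_mul_eq_iff_eq_mul, ← mul_assoc, e, mul_inv_cancel_right]
      rw [e']
      exact K.mul_mem (rep ⟨g x, x, rfl⟩).2.2 (K.inv_mem x.2.2)⟩ : ↥(H ⊓ K)), g x)) ?_
  intro x y hxy
  have h0 := (Prod.ext_iff.1 hxy).2
  have h1 : (((rep ⟨g x, x, rfl⟩).1 : H) : M)⁻¹ * x.1 = (((rep ⟨g y, y, rfl⟩).1 : H) : M)⁻¹ * y.1 :=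
    congrArg Subtype.val (Prod.ext_iff.1 hxy).1
  rw [show rep ⟨g x, x, rfl⟩ = rep ⟨g y, y, rfl⟩ from congrArg rep (Subtype.ext h0)] at h1
  have h1' := mul_left_cancel h1
  refine Prod.ext (Subtype.ext h1') (Subtype.ext ?_)
  have h0' : (x.1 : M) * x.2 = y.1 * y.2 := congrArg Subtype.val h0
  rw [h1'] at h0'
  exact mul_left_cancel h0'

/-- the product formula inequality, additively -/
theorem add_card_mul_le {M : Type*} [AddGroup M] [Finite M] (H K : AddSubgroup M) :
    Nat.card H * Nat.card K ≤ Nat.card ↥(H ⊓ K) * Nat.card ↥(H ⊔ K) := by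
  classical
  let g : H × K → ↥(H ⊔ K) := fun x =>
    ⟨(x.1 : M) + x.2, add_mem (AddSubgroup.mem_sup_left x.1.2) (AddSubgroup.mem_sup_right x.2.2)⟩
  let rep : Set.range g → H × K := fun z => z.2.choose
  have hrep : ∀ z, g (rep z) = z := fun z => z.2.choose_spec
  rw [← Nat.card_prod, ← Nat.card_prod]
  refine Nat.card_le_card_of_injective
    (fun x => ((⟨-(((rep ⟨g x, x, rfl⟩).1 : H) : M) + x.1, by
      refine ⟨H.add_mem (H.neg_mem (rep ⟨g x, x, rfl⟩).1.2) x.1.2, ?_⟩
      have e : (((rep ⟨g x, x, rfl⟩).1 : H) : M) + (rep ⟨g x, x, rfl⟩).2 = x.1 + x.2 :=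
        congrArg Subtype.val (hrep ⟨g x, x, rfl⟩)
      have e' : -(((rep ⟨g x, x, rfl⟩).1 : H) : M) + x.1 =
          (rep ⟨g x, x, rfl⟩).2 + -(x.2 : M) := by
        rw [neg_add_eq_iff_eq_add, ← add_assoc, e, add_neg_cancel_right]
      rw [e']
      exact K.add_mem (rep ⟨g x, x, rfl⟩).2.2 (K.neg_mem x.2.2)⟩ : ↥(H ⊓ K)), g x)) ?_
  intro x y hxy
  have h0 := (Prod.ext_iff.1 hxy).2
  have h1 : -(((rep ⟨g x, x, rfl⟩).1 : H) : M) + x.1 = -(((rep ⟨g y, y, rfl⟩).1 : H) : M) + y.1 :=
    congrArg Subtype.val (Prod.ext_iff.1 hxy).1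
  rw [show rep ⟨g x, x, rfl⟩ = rep ⟨g y, y, rfl⟩ from congrArg rep (Subtype.ext h0)] at h1
  have h1' := add_left_cancel h1
  refine Prod.ext (Subtype.ext h1') (Subtype.ext ?_)
  have h0' : (x.1 : M) + x.2 = y.1 + y.2 := congrArg Subtype.val h0
  rw [h1'] at h0'
  exact add_left_cancel h0'

/-- the stabiliser of a subgroup of the module -/
def stabSub (U : AddSubgroup V) : Subgroup G where
  carrier := {g | ∀ v ∈ U, φ g v ∈ U}
  one_mem' := fun v hv => by rwa [phi_one]
  mul_mem' := fun {x y} hx hy v hv => by rw [phi_mul]; exact hx _ (hy v hv)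
  inv_mem' := fun {x} hx v hv => by
    have hinj : Function.Injective (fun w : U => (⟨φ x w, hx w w.2⟩ : U)) := by
      intro a b hab
      have := congrArg (fun z : U => φ x⁻¹ (z : V)) hab
      simp only [phi_inv_apply] at this
      exact Subtype.ext this
    obtain ⟨w, hw⟩ := Finite.surjective_of_injective hinj ⟨v, hv⟩
    have : φ x w = v := congrArg Subtype.val hw
    rw [← this, phi_inv_apply]
    exact w.2

/-- elements mapping `K` into itself -/
def normK (K : Subgroup G) : Subgroup G where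
  carrier := {g | ∀ k ∈ K, g * k * g⁻¹ ∈ K}
  one_mem' := fun k hk => by rwa [one_mul, inv_one, mul_one]
  mul_mem' := fun {x y} hx hy k hk => by
    rw [show x * y * k * (x * y)⁻¹ = x * (y * k * y⁻¹) * x⁻¹ by group]
    exact hx _ (hy k hk)
  inv_mem' := fun {x} hx k hk => by
    have hinj : Function.Injective (fun m : K => (⟨x * m * x⁻¹, hx m m.2⟩ : K)) := fun a b h =>
      Subtype.ext (mul_left_cancel (mul_right_cancel (congrArg Subtype.val h)))
    obtain ⟨m, hm⟩ := Finite.surjective_of_injective hinj ⟨k, hk⟩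
    have hm' : x * m * x⁻¹ = k := congrArg Subtype.val hm
    rw [← hm', show x⁻¹ * (x * m * x⁻¹) * x⁻¹⁻¹ = m by group]
    exact m.2

theorem mem_normK {K : Subgroup G} {g : G} : g ∈ normK K ↔ ∀ k ∈ K, g * k * g⁻¹ ∈ K := Iff.rfl

/-- fixed vectors in `U` -/
def fixU (U : AddSubgroup V) (B : Subgroup G) : AddSubgroup V where
  carrier := {v | v ∈ U ∧ ∀ b ∈ B, φ b v = v}
  zero_mem' := ⟨U.zero_mem, fun b _ => map_zero _⟩
  add_mem' := fun {x y} hx hy => ⟨U.add_mem hx.1 hy.1, fun b hb => by rw [map_add, hx.2 b hb, hy.2 b hb]⟩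
  neg_mem' := fun {x} hx => ⟨U.neg_mem hx.1, fun b hb => by rw [map_neg, hx.2 b hb]⟩

theorem mem_fixU {U : AddSubgroup V} {B : Subgroup G} {v : V} :
    v ∈ fixU φ U B ↔ v ∈ U ∧ ∀ b ∈ B, φ b v = v := Iff.rfl

theorem fixU_mono {U : AddSubgroup V} {B C : Subgroup G} (h : B ≤ C) : fixU φ U C ≤ fixU φ U B :=
  fun _ hv => ⟨hv.1, fun b hb => hv.2 b (h hb)⟩

theorem fixU_sup {U : AddSubgroup V} (B C : Subgroup G) :
    fixU φ U (B ⊔ C) = fixU φ U B ⊓ fixU φ U C := by
  refine le_antisymm (le_inf (fixU_mono φ le_sup_left) (fixU_mono φ le_sup_right)) ?_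
  intro v hv
  refine ⟨hv.1.1, fun g hg => ?_⟩
  let S : Subgroup G :=
    { carrier := {g | φ g v = v}
      one_mem' := phi_one φ v
      mul_mem' := fun {x y} (hx : φ x v = v) (hy : φ y v = v) => by
        show φ (x * y) v = v; rw [phi_mul, hy, hx]
      inv_mem' := fun {x} (hx : φ x v = v) => by
        show φ x⁻¹ v = v; conv_lhs => rw [← hx, phi_inv_apply] }
  exact (sup_le (fun b hb => hv.1.2 b hb) (fun b hb => hv.2.2 b hb) : B ⊔ C ≤ S) hg

/-- replacement: a best offender contains a quadratic one -/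
theorem replacement (A : Subgroup G) (hAc : ∀ a ∈ A, ∀ b ∈ A, a * b = b * a) (U : AddSubgroup V)
    (hUA : ∀ a ∈ A, ∀ v ∈ U, φ a v ∈ U)
    (hP : ∀ B : Subgroup G, B ≤ A → Nat.card B * Nat.card (fixU φ U B) ≤ Nat.card A * Nat.card (fixU φ U A)) :
    ∃ B : Subgroup G, B ≤ A ∧
      Nat.card B * Nat.card (fixU φ U B) = Nat.card A * Nat.card (fixU φ U A) ∧
      (∀ b ∈ B, ∀ a ∈ A, ∀ v ∈ U, φ b (φ a v - v) = φ a v - v) ∧
      ∀ W : AddSubgroup V, fixU φ U A ≤ W → (∀ a ∈ A, ∀ v ∈ U, φ a v - v ∈ W) → fixU φ U B ≤ W := by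
  classical
  haveI := Fintype.ofFinite V
  set M := Nat.card A * Nat.card (fixU φ U A) with hM
  suffices key : ∀ s : Finset V, (∀ v ∈ s, v ∈ U) → ∃ B : Subgroup G, B ≤ A ∧
      Nat.card B * Nat.card (fixU φ U B) = M ∧
      (∀ b ∈ B, ∀ a ∈ A, ∀ v ∈ s, φ b (φ a v - v) = φ a v - v) ∧
      ∀ W : AddSubgroup V, fixU φ U A ≤ W → (∀ a ∈ A, ∀ v ∈ s, φ a v - v ∈ W) → fixU φ U B ≤ W by
    obtain ⟨B, h1, h2, h3, h4⟩ := key (Finset.univ.filter (· ∈ U)) (fun v hv => (Finset.mem_filter.1 hv).2)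
    exact ⟨B, h1, h2, fun b hb a ha v hv => h3 b hb a ha v (by simp [hv]),
      fun W hC hW => h4 W hC fun a ha v hv => hW a ha v (Finset.mem_filter.1 hv).2⟩
  intro s
  induction s using Finset.induction_on with
  | empty =>
    intro _
    exact ⟨A, le_rfl, rfl, fun b _ a _ v hv => absurd hv (Finset.notMem_empty v), fun W hC _ => hC⟩
  | insert v s _ ih =>
    intro hs
    obtain ⟨B1, hB1A, hB1, hB1f, hB1W⟩ := ih fun w hw => hs w (Finset.mem_insert_of_mem hw)
    have hvU : v ∈ U := hs v (Finset.mem_insert_self v s)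
    -- the stabiliser of the commutators of `v`
    let S : Subgroup G :=
      { carrier := {g | g ∈ A ∧ ∀ a ∈ A, φ g (φ a v - v) = φ a v - v}
        one_mem' := ⟨A.one_mem, fun a _ => phi_one φ _⟩
        mul_mem' := fun {x y} hx hy => ⟨A.mul_mem hx.1 hy.1, fun a ha => by
          rw [phi_mul, hy.2 a ha, hx.2 a ha]⟩
        inv_mem' := fun {x} hx => ⟨A.inv_mem hx.1, fun a ha => by
          conv_lhs => rw [← hx.2 a ha, phi_inv_apply]⟩ }
    have hSA : S ≤ A := fun g hg => hg.1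
    set C := fixU φ U A with hC
    let Mv : AddSubgroup V := AddSubgroup.closure {w | ∃ a ∈ A, φ a v - v = w}
    have hMS : Mv ⊔ C ≤ fixU φ U S := by
      refine sup_le ((AddSubgroup.closure_le _).2 ?_) (fixU_mono φ hSA)
      rintro _ ⟨a, ha, rfl⟩
      exact ⟨U.sub_mem (hUA a ha v hvU) hvU, fun b hb => hb.2 a ha⟩
    have hcnt : Nat.card A * Nat.card C ≤ Nat.card S * Nat.card ↥(Mv ⊔ C) := by
      let F : A → V ⧸ C := fun a => ((φ (a : G) v - v : V) : V ⧸ C)
      let rep : Set.range F → A := fun z => z.2.choose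
      have hrep : ∀ z, F (rep z) = z := fun z => z.2.choose_spec
      rw [← Nat.card_prod, ← Nat.card_prod]
      refine Nat.card_le_card_of_injective
        (fun x : A × C => ((⟨((rep ⟨F x.1, x.1, rfl⟩ : A) : G)⁻¹ * x.1, by
          set r := rep ⟨F x.1, x.1, rfl⟩ with hr
          refine ⟨A.mul_mem (A.inv_mem r.2) x.1.2, fun c hc => ?_⟩
          have hd : φ (x.1 : G) v - v - (φ (r : G) v - v) ∈ C := by
            refine QuotientAddGroup.eq_iff_sub_mem.1 ?_
            exact (hrep ⟨F x.1, x.1, rfl⟩).symm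
          have h1 := hd.2 c hc
          have h2 : φ c (φ (x.1 : G) v) - φ c (φ (r : G) v) = φ (x.1 : G) v - φ (r : G) v := by
            have e : φ (x.1 : G) v - v - (φ (r : G) v - v) = φ (x.1 : G) v - φ (r : G) v := by abel
            rw [e, map_sub] at h1
            exact h1
          rw [← phi_mul, ← phi_mul, hAc c hc x.1 x.1.2, hAc c hc r r.2, phi_mul, phi_mul] at h2
          have h3 : φ (x.1 : G) (φ c v - v) = φ (r : G) (φ c v - v) := by
            rw [map_sub, map_sub]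
            rw [sub_eq_sub_iff_sub_eq_sub] at h2
            exact h2
          rw [phi_mul, h3, phi_inv_apply]⟩ : S),
          (⟨φ (x.1 : G) v - v + x.2, add_mem (AddSubgroup.mem_sup_left
            (AddSubgroup.subset_closure ⟨x.1, x.1.2, rfl⟩)) (AddSubgroup.mem_sup_right x.2.2)⟩ :
            ↥(Mv ⊔ C)))) ?_
      intro x y hxy
      have h0 : φ (x.1 : G) v - v + x.2 = φ (y.1 : G) v - v + y.2 :=
        congrArg Subtype.val (Prod.ext_iff.1 hxy).2
      have hF : F x.1 = F y.1 := by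
        refine QuotientAddGroup.eq_iff_sub_mem.2 ?_
        have : φ (x.1 : G) v - v - (φ (y.1 : G) v - v) = (y.2 : V) - x.2 := by
          rw [sub_eq_sub_iff_add_eq_add, h0, add_comm]
        rw [this]; exact C.sub_mem y.2.2 x.2.2
      have h1 : ((rep ⟨F x.1, x.1, rfl⟩ : A) : G)⁻¹ * x.1 = ((rep ⟨F y.1, y.1, rfl⟩ : A) : G)⁻¹ * y.1 :=
        congrArg Subtype.val (Prod.ext_iff.1 hxy).1
      rw [show rep ⟨F x.1, x.1, rfl⟩ = rep ⟨F y.1, y.1, rfl⟩ from congrArg rep (Subtype.ext hF)] at h1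
      have h1' : x.1 = y.1 := Subtype.ext (mul_left_cancel h1)
      refine Prod.ext h1' (Subtype.ext ?_)
      rw [h1'] at h0
      exact add_left_cancel h0
    have hS : Nat.card S * Nat.card ↥(Mv ⊔ C) = M ∧ fixU φ U S = Mv ⊔ C := by
      have h1 : Nat.card ↥(Mv ⊔ C) ≤ Nat.card (fixU φ U S) := AddSubgroup.card_le_of_le hMS
      have h2 := hP S hSA
      have h3 : Nat.card S * Nat.card ↥(Mv ⊔ C) ≤ Nat.card S * Nat.card (fixU φ U S) :=
        Nat.mul_le_mul_left _ h1
      have h4 : Nat.card S * Nat.card ↥(Mv ⊔ C) = M := le_antisymm (h3.trans h2) hcnt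
      refine ⟨h4, (AddSubgroup.eq_of_le_of_card_ge hMS ?_).symm⟩
      have h5 : Nat.card S * Nat.card (fixU φ U S) ≤ Nat.card S * Nat.card ↥(Mv ⊔ C) := h4 ▸ h2
      exact Nat.le_of_mul_le_mul_left h5 Nat.card_pos
    obtain ⟨hS1, hS2⟩ := hS
    have hBA : B1 ⊓ S ≤ A := inf_le_left.trans hB1A
    have hle : fixU φ U B1 ⊔ fixU φ U S ≤ fixU φ U (B1 ⊓ S) :=
      sup_le (fixU_mono φ inf_le_left) (fixU_mono φ inf_le_right)
    have hG1 := card_mul_le B1 S
    have hG2 := add_card_mul_le (fixU φ U B1) (fixU φ U S)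
    rw [← fixU_sup] at hG2
    have hj := hP (B1 ⊔ S) (sup_le hB1A hSA)
    have hi := hP (B1 ⊓ S) hBA
    rw [← hS2] at hS1
    set a0 := Nat.card ↥(B1 ⊓ S)
    set b0 := Nat.card ↥(B1 ⊔ S)
    set Y := Nat.card ↥(fixU φ U B1 ⊔ fixU φ U S)
    set Z := Nat.card ↥(fixU φ U (B1 ⊔ S))
    set X := Nat.card ↥(fixU φ U (B1 ⊓ S))
    have hMpos : 0 < M := Nat.mul_pos Nat.card_pos Nat.card_pos
    have hMM : M * M ≤ a0 * Y * (b0 * Z) := by
      calc M * M = (Nat.card B1 * Nat.card (fixU φ U B1)) * (Nat.card S * Nat.card (fixU φ U S)) := by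
            rw [hB1, hS1]
        _ = (Nat.card B1 * Nat.card S) * (Nat.card (fixU φ U B1) * Nat.card (fixU φ U S)) := by ring
        _ ≤ (a0 * b0) * (Z * Y) := Nat.mul_le_mul hG1 hG2
        _ = _ := by ring
    have haY : M ≤ a0 * Y := by
      refine Nat.le_of_mul_le_mul_right (hMM.trans (Nat.mul_le_mul_left _ hj)) hMpos
    have hYX : Y ≤ X := AddSubgroup.card_le_of_le hle
    have hXeq : a0 * X = M := le_antisymm hi (haY.trans (Nat.mul_le_mul_left _ hYX))
    have hXY : X ≤ Y := Nat.le_of_mul_le_mul_left (by rw [hXeq]; exact haY) Nat.card_pos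
    have heq := AddSubgroup.eq_of_le_of_card_ge hle hXY
    refine ⟨B1 ⊓ S, hBA, hXeq, ?_, ?_⟩
    · intro b hb a ha w hw
      rcases Finset.mem_insert.1 hw with rfl | hw
      · exact hb.2.2 a ha
      · exact hB1f b hb.1 a ha w hw
    · intro W hCW hW
      rw [← heq]
      refine sup_le (hB1W W hCW fun a ha w hw => hW a ha w (Finset.mem_insert_of_mem hw)) ?_
      rw [hS2]
      refine sup_le ((AddSubgroup.closure_le _).2 ?_) hCW
      rintro _ ⟨a, ha, rfl⟩
      exact hW a ha v (Finset.mem_insert_self v s)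

/-- commuting elements of order `p` cannot satisfy `U = C_U(A) + [U,A]` without being trivial -/
theorem no_full (A : Subgroup G) (hAc : ∀ a ∈ A, ∀ b ∈ A, a * b = b * a) {p : ℕ} [hp : Fact p.Prime]
    (hpV : ∀ v : V, p • v = 0) (hAp : ∀ a ∈ A, a ^ p = 1) (U : AddSubgroup V)
    (hUA : ∀ a ∈ A, ∀ v ∈ U, φ a v ∈ U)
    (h : ∀ W : AddSubgroup V, fixU φ U A ≤ W → (∀ a ∈ A, ∀ v ∈ U, φ a v - v ∈ W) → U ≤ W) :
    ∀ a ∈ A, ∀ v ∈ U, φ a v = v := by
  classical
  by_contra hcon
  push Not at hcon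
  obtain ⟨a₀, ha₀, v₀, hv₀, hne⟩ := hcon
  -- images of products of `a - 1`
  let img : List A → AddSubgroup V := fun l => l.foldr
    (fun a W => W.map ((show V →+ V from φ (a : G)) - AddMonoidHom.id V))
    (AddSubgroup.closure {w | ∃ a ∈ A, ∃ v ∈ U, φ a v - v = w})
  set M := AddSubgroup.closure {w | ∃ a ∈ A, ∃ v ∈ U, φ a v - v = w} with hM
  have hMU : M ≤ U := (AddSubgroup.closure_le _).2 (by
    rintro _ ⟨a, ha, v, hv, rfl⟩; exact U.sub_mem (hUA a ha v hv) hv)
  have hMA : ∀ a ∈ A, ∀ w ∈ M, φ a w - w ∈ M := fun a ha w hw =>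
    AddSubgroup.subset_closure ⟨a, ha, w, hMU hw, rfl⟩
  -- every commutator is a sum of second commutators
  let N : AddSubgroup V := AddSubgroup.closure {w | ∃ a ∈ A, ∃ m ∈ M, φ a m - m = w}
  have hMN : M ≤ N := by
    refine (AddSubgroup.closure_le _).2 ?_
    rintro _ ⟨a, ha, v, hv, rfl⟩
    have hv' : v ∈ fixU φ U A ⊔ M := h _ le_sup_left
      (fun a ha v hv => AddSubgroup.mem_sup_right (show φ a v - v ∈ M from AddSubgroup.subset_closure ⟨a, ha, v, hv, rfl⟩)) hv
    obtain ⟨c, hc, m, hm, rfl⟩ := AddSubgroup.mem_sup.1 hv'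
    refine AddSubgroup.subset_closure ⟨a, ha, m, hm, ?_⟩
    rw [map_add, hc.2 a ha]; abel
  have hne0 : img [] ≠ ⊥ := by
    intro h0
    apply hne
    have : φ a₀ v₀ - v₀ ∈ img [] := AddSubgroup.subset_closure ⟨a₀, ha₀, v₀, hv₀, rfl⟩
    rwa [h0, AddSubgroup.mem_bot, sub_eq_zero] at this
  obtain ⟨l, hl, hmin⟩ : ∃ l, img l ≠ ⊥ ∧ ∀ l', img l' ≠ ⊥ → Nat.card (img l) ≤ Nat.card (img l') := by
    have hex : ∃ n, ∃ l, img l ≠ ⊥ ∧ Nat.card (img l) = n := ⟨_, [], hne0, rfl⟩
    obtain ⟨l, hl, he⟩ := Nat.find_spec hex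
    exact ⟨l, hl, fun l' hl' => he ▸ Nat.find_min' hex ⟨l', hl', rfl⟩⟩
  have himgM : ∀ l, img l ≤ M := by
    intro l
    induction l with
    | nil => exact le_rfl
    | cons a l ih =>
      rintro _ ⟨w, hw, rfl⟩
      exact hMA a a.2 w (ih hw)
  have hinv : ∀ l, ∀ a ∈ A, ∀ w ∈ img l, φ a w - w ∈ img l := by
    intro l
    induction l with
    | nil => exact fun a ha w hw => hMA a ha w hw
    | cons b l ih =>
      rintro a ha _ ⟨w, hw, rfl⟩
      refine ⟨φ a w - w, ih a ha w hw, ?_⟩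
      show φ (b : G) (φ a w - w) - (φ a w - w) = φ a (φ (b : G) w - w) - (φ (b : G) w - w)
      rw [map_sub, map_sub, ← phi_mul, ← phi_mul, hAc b b.2 a ha]
      abel
  have hkill : ∀ a : A, ∀ w ∈ img l, φ (a : G) w - w = 0 := by
    intro a
    have hsub : img (a :: l) ≤ img l := by
      rintro _ ⟨w, hw, rfl⟩; exact hinv l a a.2 w hw
    by_contra hcon
    push Not at hcon
    obtain ⟨w, hw, hw0⟩ := hcon
    have hne' : img (a :: l) ≠ ⊥ := fun h0 => hw0 (by
      have : φ (a : G) w - w ∈ img (a :: l) := ⟨w, hw, rfl⟩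
      rwa [h0, AddSubgroup.mem_bot] at this)
    have heq := AddSubgroup.eq_of_le_of_card_ge hsub (hmin _ hne')
    haveI : Nontrivial V := ⟨⟨φ (a : G) w - w, 0, hw0⟩⟩
    haveI : Nontrivial (AddMonoid.End V) := by
      refine ⟨⟨1, 0, fun h1 => hw0 ?_⟩⟩
      exact congrArg (fun f : AddMonoid.End V => f (φ (a : G) w - w)) h1
    haveI : CharP (AddMonoid.End V) p := (CharP.charP_iff_prime_eq_zero hp.out).2 (by
      rw [← nsmul_one]; exact AddMonoidHom.ext fun v => hpV v)
    set e : AddMonoid.End V := φ (a : G) - 1 with he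
    have hep : e ^ p = 0 := by
      rw [he, sub_pow_char_of_commute p (Commute.one_right _), ← map_pow, hAp a a.2, map_one, one_pow,
        sub_self]
    have hiter : ∀ n : ℕ, ∀ z ∈ img l, ∃ z' ∈ img l, (e ^ n) z' = z := by
      intro n
      induction n with
      | zero => exact fun z hz => ⟨z, hz, rfl⟩
      | succ n ih =>
        intro z hz
        obtain ⟨z', hz', rfl⟩ := ih z hz
        rw [← heq] at hz'
        obtain ⟨z'', hz'', rfl⟩ := hz'
        exact ⟨z'', hz'', by rw [pow_succ]; rfl⟩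
    obtain ⟨z', -, hz'⟩ := hiter p w hw
    rw [hep] at hz'
    apply hw0
    rw [show w = 0 from hz'.symm, map_zero, sub_zero]
  -- the minimal image is then trivial
  apply hl
  have hcomp : ∀ l, ∀ w ∈ img l, ∃ m ∈ M, (l.foldr (fun (a : A) z => φ (a : G) z - z) m) = w := by
    intro l
    induction l with
    | nil => exact fun w hw => ⟨w, hw, rfl⟩
    | cons b l ih =>
      rintro _ ⟨w, hw, rfl⟩
      obtain ⟨m, hm, e⟩ := ih w hw
      exact ⟨m, hm, by rw [List.foldr_cons, e]; rfl⟩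
  let L : V →+ V := l.foldr (fun (a : A) f => ((show V →+ V from φ (a : G)) - AddMonoidHom.id V).comp f)
    (AddMonoidHom.id V)
  have hL : ∀ m, L m = l.foldr (fun (a : A) z => φ (a : G) z - z) m := by
    intro m
    show (l.foldr (fun (a : A) f => ((show V →+ V from φ (a : G)) - AddMonoidHom.id V).comp f)
      (AddMonoidHom.id V)) m = _
    clear hl hmin hkill L
    induction l with
    | nil => rfl
    | cons b l ih => rw [List.foldr_cons, List.foldr_cons, ← ih]; rfl
  have hLimg : ∀ m ∈ M, L m ∈ img l := by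
    intro m hm
    rw [hL]
    clear hl hmin hkill hL L
    induction l with
    | nil => exact hm
    | cons b l ih => exact ⟨_, ih, rfl⟩
  have hcommL : ∀ a ∈ A, ∀ m, L (φ a m - m) = φ a (L m) - L m := by
    intro a ha m
    rw [hL, hL]
    clear hl hmin hkill hL hLimg L
    induction l with
    | nil => rfl
    | cons b l ih =>
      rw [List.foldr_cons, List.foldr_cons, ih, map_sub, map_sub, ← phi_mul, ← phi_mul, hAc b b.2 a ha]
      abel
  have hN0 : ∀ z ∈ N, L z = 0 := by
    intro z hz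
    induction hz using AddSubgroup.closure_induction with
    | mem z hz =>
      obtain ⟨a, ha, m, hm, rfl⟩ := hz
      rw [hcommL a ha]; exact hkill ⟨a, ha⟩ _ (hLimg m hm)
    | zero => exact map_zero L
    | add x y _ _ hx hy => rw [map_add, hx, hy, add_zero]
    | neg x _ hx => rw [map_neg, hx, neg_zero]
  rw [eq_bot_iff]
  intro w hw
  obtain ⟨m, hm, rfl⟩ := hcomp l w hw
  rw [AddSubgroup.mem_bot, ← hL]
  exact hN0 m (hMN hm)

variable {p : ℕ} [hp : Fact p.Prime]

/-- `K` cannot be moved in the counting configuration -/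
theorem two_case (h2 : ∀ v : V, v + v = 0) {K : Subgroup G} (hK : Good K) (U : AddSubgroup V)
    (hUK : ∀ k ∈ K, ∀ v ∈ U, φ k v ∈ U) (a : G) (hUa : ∀ v ∈ U, φ a v ∈ U) (ha : a * a = 1)
    (hKa : ∀ x ∈ K, ∀ y ∈ K, x * (a * y * a) = a * y * a * x)
    (B : Subgroup G) (hBK : ∀ b ∈ B, ∀ k ∈ K, b * k * b⁻¹ ∈ K) (hBa : ∀ b ∈ B, b * a = a * b)
    (hB2 : ∀ b ∈ B, b * b = 1) (hBc : ∀ b ∈ B, ∀ c ∈ B, b * c = c * b)
    (hUB : ∀ b ∈ B, ∀ v ∈ U, φ b v ∈ U)
    (hIB : ∀ b ∈ B, ∀ v ∈ U, φ b (φ a v + v) = φ a v + v)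
    (hcount : Nat.card (fixU φ U (B ⊓ centralizer (K : Set G))) ≤
      2 * Nat.card (Set.range fun b : B => fun k : K => (b : G) * k * (b : G)⁻¹) *
        Nat.card (fixU φ U B))
    (hsmall : B ≤ centralizer (K : Set G) → Nat.card (fixU φ U (B ⊓ centralizer (K : Set G))) ≤
      2 * Nat.card (fixU φ U (B ⊔ zpowers a))) :
    ∀ k ∈ K, ∀ v ∈ U, φ k v = v := by
  classical
  set A1 := B ⊓ centralizer (K : Set G) with hA1
  set U1 := fixU φ U A1 with hU1
  let T : Set G := (K : Set G) ∪ B ∪ {a}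
  set H := closure T with hH
  have hKH : K ≤ H := fun k hk => subset_closure (Or.inl (Or.inl hk))
  have hBH : B ≤ H := fun k hk => subset_closure (Or.inl (Or.inr hk))
  have haH : a ∈ H := subset_closure (Or.inr rfl)
  have hTU : H ≤ stabSub φ U := (closure_le _).2 (by
    rintro g ((hg | hg) | hg)
    · exact hUK g hg
    · exact hUB g hg
    · rw [Set.mem_singleton_iff.1 hg]; exact hUa)
  have hTU1 : ∀ g ∈ H, ∀ v ∈ U1, φ g v ∈ U1 := by
    intro g hg v hv
    refine ⟨hTU hg v hv.1, fun c hc => ?_⟩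
    have hgc : g ∈ centralizer ({c} : Set G) := by
      refine (closure_le _).2 ?_ hg
      intro g' hg'
      rw [SetLike.mem_coe, mem_centralizer_singleton_iff]
      rcases hg' with (hg' | hg') | hg'
      · exact mem_centralizer_iff.1 hc.2 g' hg'
      · exact hBc g' hg' c hc.1
      · rw [Set.mem_singleton_iff.1 hg']; exact (hBa c hc.1).symm
    rw [← phi_mul, ← mem_centralizer_singleton_iff.1 hgc, phi_mul, hv.2 c hc]
  let ψ := res φ H U1 hTU1
  let K' := K.subgroupOf H
  let B' := B.subgroupOf H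
  let a' : H := ⟨a, haH⟩
  have hK' : Good K' := hK.subgroupOf hKH
  have hgen : closure ((K' : Set H) ∪ B' ∪ {a'}) = ⊤ := by
    have e : ((K' : Set H) ∪ B' ∪ {a'}) = ((↑) : H → G) ⁻¹' T := by
      ext x
      simp only [Set.mem_union, Set.mem_preimage, Set.mem_singleton_iff, T, SetLike.mem_coe,
        mem_subgroupOf, K', B', a', Subtype.ext_iff]
    rw [e]
    exact closure_closure_coe_preimage
  have hI : ∀ v ∈ U, φ a v + v ∈ U1 := fun v hv =>
    ⟨U.add_mem (hUa v hv) hv, fun b hb => hIB b hb.1 v hv⟩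
  -- the diagonal
  have hD : ∀ k ∈ K', ∀ w : U1, ψ (k * (a' * k * a')) (ψ a' w + w) = ψ a' w + w := by
    by_cases hc : B ≤ centralizer (K : Set G)
    · -- the traces have at most two elements
      have hs := hsmall hc
      have hF : fixU φ U (B ⊔ zpowers a) ≤ U1 := fixU_mono φ (le_trans inf_le_left le_sup_left)
      intro k hk w
      -- two cosets
      have hfix : ∀ z : U1, (ψ a' z + z = 0) → (z : V) ∈ U1 := fun z _ => z.2
      let Z : AddSubgroup V := fixU φ U (B ⊔ zpowers a)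
      have hval : ∀ z : U1, ψ a' z + z ≠ 0 → ∀ z' : U1, ψ a' z' + z' ≠ 0 → ψ a' z + z = ψ a' z' + z' := by
        intro z hz z' hz'
        by_contra hne
        -- three cosets of the fixed points
        have hz0 : ∀ (y : U1) (f : Z), ψ a' y + y = ψ a' (⟨(y : V) + f, U1.add_mem y.2 (hF f.2)⟩ : U1) +
            ⟨(y : V) + f, U1.add_mem y.2 (hF f.2)⟩ := by
          intro y f
          apply Subtype.ext
          show φ a y + (y : V) = φ a ((y : V) + f) + ((y : V) + f)
          rw [map_add, f.2.2 a (mem_sup_right (mem_zpowers a))]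
          calc φ a y + (y : V) = φ a y + y + ((f : V) + f) := by rw [h2, add_zero]
            _ = _ := by abel
        let pick : Fin 3 → U1 := ![0, z, z']
        let val : Fin 3 → U1 := fun i => ψ a' (pick i) + pick i
        have hvinj : Function.Injective val := by
          intro i j hij
          fin_cases i <;> fin_cases j <;>
            first
            | rfl
            | (exfalso; simp [val, pick, map_zero] at hij; first | exact hz hij | exact hz hij.symm | exact hz' hij | exact hz' hij.symm | exact hne hij | exact hne hij.symm)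
        have h3 : 3 * Nat.card Z ≤ Nat.card U1 := by
          have e := Nat.card_le_card_of_injective
            (fun x : Fin 3 × Z => (⟨(pick x.1 : V) + x.2, U1.add_mem (pick x.1).2 (hF x.2.2)⟩ : U1))
            (fun x y hxy => by
              have h0 : val x.1 = val y.1 := by
                show ψ a' (pick x.1) + pick x.1 = ψ a' (pick y.1) + pick y.1
                rw [hz0 (pick x.1) x.2, hz0 (pick y.1) y.2]
                exact congrArg (fun u => ψ a' u + u) hxy
              have h1 := hvinj h0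
              refine Prod.ext h1 (Subtype.ext ?_)
              have h2' : (pick x.1 : V) + x.2 = (pick y.1 : V) + y.2 := congrArg Subtype.val hxy
              rw [h1] at h2'
              exact add_left_cancel h2')
          simpa [Nat.card_prod] using e
        have hpos : 0 < Nat.card Z := Nat.card_pos
        have hs' : Nat.card U1 ≤ 2 * Nat.card Z := hs
        omega
      set d := k * (a' * k * a') with hd
      have hda : d * a' = a' * d := by
        apply Subtype.ext
        show (k : G) * (a * k * a) * a = a * ((k : G) * (a * k * a))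
        have h1 := hKa k hk k hk
        calc (k : G) * (a * k * a) * a = (k : G) * a * k * (a * a) := by group
          _ = (a * a) * (k : G) * a * k := by rw [ha, mul_one, one_mul]
          _ = a * (a * k * a * k) := by group
          _ = _ := by rw [← h1]
      have hcom : ψ d (ψ a' w + w) = ψ a' (ψ d w) + ψ d w := by
        rw [map_add, ← phi_mul, hda, phi_mul]
      by_cases h0 : ψ a' w + w = 0
      · rw [h0, map_zero]
      · rw [hcom]
        refine (hval w h0 (ψ d w) ?_).symm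
        rw [← hcom]
        intro h00
        apply h0
        have := congrArg (ψ d⁻¹) h00
        rwa [phi_inv_apply, map_zero] at this
    · obtain ⟨b, hb, hbc⟩ := SetLike.not_le_iff_exists.1 hc
      have hne : ∃ k ∈ K, b * k * b⁻¹ ≠ k := by
        by_contra hall
        push Not at hall
        exact hbc (mem_centralizer_iff.2 fun k hk => (mul_inv_eq_iff_eq_mul.1 (hall k hk)).symm)
      refine diag_fix_moved ψ hK' a' ⟨b, hBH hb⟩ (fun w => Subtype.ext (h2 w)) (Subtype.ext ha)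
        (fun x hx y hy => Subtype.ext (hKa x hx y hy)) (fun x hx => hBK b hb x hx)
        (Subtype.ext (hBa b hb)) ?_ (fun w => Subtype.ext (hIB b hb w w.2.1))
      obtain ⟨k, hk, hkb⟩ := hne
      exact ⟨⟨k, hKH hk⟩, hk, fun e => hkb (congrArg Subtype.val e)⟩
  set n := Nat.card (Set.range fun b : B => fun k : K => (b : G) * k * (b : G)⁻¹) with hn
  set n' := Nat.card (Set.range fun b : B' => fun k : K' => (b : H) * k * (b : H)⁻¹) with hn'
  have hnn : n ≤ n' := by
    let f : Set.range (fun b : B => fun k : K => (b : G) * k * (b : G)⁻¹) →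
        Set.range (fun b : B' => fun k : K' => (b : H) * k * (b : H)⁻¹) :=
      fun z => ⟨_, ⟨⟨⟨(z.2.choose : G), hBH z.2.choose.2⟩, z.2.choose.2⟩, rfl⟩⟩
    refine Nat.card_le_card_of_injective f fun z z' e => Subtype.ext ?_
    rw [← z.2.choose_spec, ← z'.2.choose_spec]
    funext k
    exact congrArg Subtype.val (congrFun (congrArg Subtype.val e) ⟨⟨k, hKH k.2⟩, k.2⟩)
  have hF : Nat.card (fixU φ U B) ≤ Nat.card {w : U1 // ∀ b ∈ B', ψ b w = w} :=
    Nat.card_le_card_of_injective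
      (fun v => (⟨⟨v.1, fixU_mono φ inf_le_left v.2⟩, fun b hb => Subtype.ext (v.2.2 b hb)⟩ :
        {w : U1 // ∀ b ∈ B', ψ b w = w}))
      (fun x y e => Subtype.ext (congrArg (fun z : {w : U1 // ∀ b ∈ B', ψ b w = w} => ((z : U1) : V)) e))
  have hU1K : ∀ k ∈ K', ψ k = 1 := by
    refine two_count ψ hK' a' B' (Subtype.ext ha) hgen (fun x hx y hy => Subtype.ext (hKa x hx y hy))
      (fun b hb k hk => hBK b hb k hk) (fun b hb => Subtype.ext (hBa b hb))
      (fun b hb => Subtype.ext (hB2 b hb)) (fun b hb c hc => Subtype.ext (hBc b hb c hc)) n' rfl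
      ⟨fun w => Subtype.ext (h2 w), fun b hb w => Subtype.ext (hIB b hb w w.2.1), hD, ?_, ?_, ?_⟩
    · intro b hb hc
      refine AddMonoidHom.ext fun w => Subtype.ext ?_
      show φ (b : G) w = (w : V)
      refine w.2.2 b ⟨hb, mem_centralizer_iff.2 fun k hk => ?_⟩
      exact (mul_inv_eq_iff_eq_mul.1 (congrArg Subtype.val (hc ⟨k, hKH hk⟩ hk))).symm
    · calc Nat.card U1 ≤ 2 * n * Nat.card (fixU φ U B) := hcount
        _ ≤ 2 * n' * Nat.card {w : U1 // ∀ b ∈ B', ψ b w = w} :=
          Nat.mul_le_mul (Nat.mul_le_mul_left _ hnn) hF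
    · intro hn1
      have hc : B ≤ centralizer (K : Set G) := by
        intro b hb
        haveI := Finite.card_le_one_iff_subsingleton.1 (le_trans hnn hn1)
        refine mem_centralizer_iff.2 fun k hk => ?_
        have e := congrFun (congrArg Subtype.val (Subsingleton.elim
          (⟨_, ⟨⟨b, hb⟩, rfl⟩⟩ : Set.range fun b : B => fun k : K => (b : G) * k * (b : G)⁻¹)
          ⟨_, ⟨(1 : B), rfl⟩⟩)) ⟨k, hk⟩
        simp only [OneMemClass.coe_one, one_mul, inv_one, mul_one] at e
        exact (mul_inv_eq_iff_eq_mul.1 e).symm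
      have hs : Nat.card U1 ≤ 2 * Nat.card (fixU φ U (B ⊔ zpowers a)) := hsmall hc
      let d : U1 →+ U1 := (show U1 →+ U1 from ψ a') + AddMonoidHom.id U1
      have hker : Nat.card (fixU φ U (B ⊔ zpowers a)) ≤ Nat.card d.ker :=
        Nat.card_le_card_of_injective
          (fun v => (⟨⟨v.1, fixU_mono φ (le_trans inf_le_left le_sup_left) v.2⟩, Subtype.ext (by
            show φ a v.1 + v.1 = 0
            rw [v.2.2 a (mem_sup_right (mem_zpowers a)), h2])⟩ : d.ker))
          (fun x y e => Subtype.ext (congrArg (fun z : d.ker => ((z : U1) : V)) e))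
      have hq : Nat.card d.range * Nat.card d.ker = Nat.card U1 := by
        rw [AddSubgroup.card_eq_card_quotient_mul_card_addSubgroup d.ker,
          Nat.card_congr (QuotientAddGroup.quotientKerEquivRange d).toEquiv]
      have hpos : 0 < Nat.card d.ker := Nat.card_pos
      refine Nat.le_of_mul_le_mul_right ?_ hpos
      calc Nat.card (trRange ψ a') * Nat.card d.ker = Nat.card U1 := hq
        _ ≤ 2 * Nat.card (fixU φ U (B ⊔ zpowers a)) := hs
        _ ≤ 2 * Nat.card d.ker := Nat.mul_le_mul_left _ hker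
  -- now `K` fixes the traces of `a`
  let H2 := closure ((K : Set G) ∪ {a})
  have hH2 : H2 ≤ stabSub φ U := (closure_le _).2 (by
    rintro g (hg | hg)
    · exact hUK g hg
    · rw [Set.mem_singleton_iff.1 hg]; exact hUa)
  have hKH2 : K ≤ H2 := fun k hk => subset_closure (Or.inl hk)
  let θ := res φ H2 U (fun g hg => hH2 hg)
  have := two_fix θ (hK.subgroupOf hKH2).perf ⟨a, subset_closure (Or.inr rfl)⟩
    (fun w => Subtype.ext (h2 w)) (Subtype.ext ha) (fun x hx y hy => Subtype.ext (hKa x hx y hy))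
    (fun k hk w => Subtype.ext (by
      show φ (k : G) (φ a w + (w : V)) = φ a w + (w : V)
      exact congrArg (fun f : AddMonoid.End U1 => ((f ⟨_, hI w w.2⟩ : U1) : V))
        (hU1K ⟨k, hKH hk⟩ hk)))
  intro k hk v hv
  exact congrArg (fun f : AddMonoid.End U => ((f ⟨v, hv⟩ : U) : V)) (this ⟨k, hKH2 hk⟩ hk)

/-- offenders normalise `K` -/
theorem offender_normalises {K : Subgroup G} (hK : Good K) (A : Subgroup G)
    (hdich : ∀ g ∈ A, (∀ k ∈ K, g * k * g⁻¹ ∈ K) ∨
      ∀ x ∈ K, ∀ y ∈ K, x * (g * y * g⁻¹) = g * y * g⁻¹ * x)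
    (hAc : ∀ a ∈ A, ∀ b ∈ A, a * b = b * a) (hAp : ∀ a ∈ A, a ^ p = 1) (hpV : ∀ v : V, p • v = 0)
    (U : AddSubgroup V) (hUA : ∀ a ∈ A, ∀ v ∈ U, φ a v ∈ U) (hUK : ∀ k ∈ K, ∀ v ∈ U, φ k v ∈ U)
    (hP : ∀ B : Subgroup G, B ≤ A → Nat.card B * Nat.card (fixU φ U B) ≤ Nat.card A * Nat.card (fixU φ U A))
    (hne : ∃ k ∈ K, ∃ v ∈ U, φ k v ≠ v) : A ≤ normK K := by
  classical
  obtain ⟨n, hn⟩ : ∃ n, Nat.card U = n := ⟨_, rfl⟩
  induction n using Nat.strong_induction_on generalizing U with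
  | _ n ih =>
  by_contra hA
  obtain ⟨As, hAsA, hAsf, hAsq, hAsW⟩ := replacement φ A hAc U hUA hP
  have hodd2 : p ≠ 2 → ∀ g ∈ A, g * g ∈ normK K → g ∈ normK K := by
    intro hp2 g hg hgg
    obtain ⟨m, hm⟩ := hp.out.odd_of_ne_two hp2
    have e : g = (g * g) ^ (m + 1) := by
      rw [← pow_two, ← pow_mul, show 2 * (m + 1) = p + 1 by omega, pow_succ, hAp g hg, one_mul]
    rw [e]; exact pow_mem hgg _
  have comm_of : ∀ g ∈ A, g ∉ normK K → ∀ x ∈ K, ∀ y ∈ K, x * (g * y * g⁻¹) = g * y * g⁻¹ * x :=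
    fun g hg hgn => (hdich g hg).resolve_left fun h => hgn h
  let H := closure ((K : Set G) ∪ A)
  have hH : H ≤ stabSub φ U := (closure_le _).2 (by
    rintro g (hg | hg)
    · exact hUK g hg
    · exact hUA g hg)
  have hKH : K ≤ H := fun k hk => subset_closure (Or.inl hk)
  have hAH : A ≤ H := fun k hk => subset_closure (Or.inr hk)
  let ψ := res φ H U (fun g hg => hH hg)
  have hK' : Good (K.subgroupOf H) := hK.subgroupOf hKH
  have hout : (∀ k ∈ K.subgroupOf H, ψ k = 1) → False := by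
    intro h
    obtain ⟨k, hk, v, hv, hkv⟩ := hne
    exact hkv (congrArg (fun f : AddMonoid.End U => ((f ⟨v, hv⟩ : U) : V)) (h ⟨k, hKH hk⟩ hk))
  -- counting data for `p = 2`
  have hB : ∀ B : Subgroup G, B ≤ normK K →
      Nat.card B ≤ Nat.card ↥(B ⊓ centralizer (K : Set G)) *
        Nat.card (Set.range fun b : B => fun k : K => (b : G) * k * (b : G)⁻¹) := by
    intro B _
    let F : B → (K → G) := fun b => fun k => (b : G) * k * (b : G)⁻¹
    let rep : Set.range F → B := fun z => z.2.choose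
    have hrep : ∀ z, F (rep z) = z := fun z => z.2.choose_spec
    rw [← Nat.card_prod]
    refine Nat.card_le_card_of_injective (fun b : B => ((⟨((rep ⟨F b, b, rfl⟩ : B) : G)⁻¹ * b, by
      refine ⟨B.mul_mem (B.inv_mem (rep ⟨F b, b, rfl⟩).2) b.2, mem_centralizer_iff.2 fun k hk => ?_⟩
      have e : ((rep ⟨F b, b, rfl⟩ : B) : G) * k * ((rep ⟨F b, b, rfl⟩ : B) : G)⁻¹ =
          (b : G) * k * (b : G)⁻¹ := congrFun (hrep ⟨F b, b, rfl⟩) ⟨k, hk⟩
      set r := ((rep ⟨F b, b, rfl⟩ : B) : G)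
      calc k * (r⁻¹ * b) = r⁻¹ * (r * k * r⁻¹) * b := by group
        _ = r⁻¹ * ((b : G) * k * (b : G)⁻¹) * b := by rw [e]
        _ = r⁻¹ * b * k := by group⟩ : ↥(B ⊓ centralizer (K : Set G))),
      (⟨F b, b, rfl⟩ : Set.range F))) ?_
    intro x y hxy
    have h0 := (Prod.ext_iff.1 hxy).2
    have h1 : ((rep ⟨F x, x, rfl⟩ : B) : G)⁻¹ * x = ((rep ⟨F y, y, rfl⟩ : B) : G)⁻¹ * y :=
      congrArg Subtype.val (Prod.ext_iff.1 hxy).1
    rw [congrArg rep h0] at h1
    exact Subtype.ext (mul_left_cancel h1)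
  have hp2V : p = 2 → ∀ v : V, v + v = 0 := by
    intro h v
    have := hpV v
    rwa [h, two_nsmul] at this
  have hsq : p = 2 → ∀ a ∈ A, a * a = 1 := by
    intro h a ha
    have := hAp a ha
    rwa [h, pow_two] at this
  have hinvA : p = 2 → ∀ a ∈ A, a⁻¹ = a := fun h a ha => inv_eq_of_mul_eq_one_left (hsq h a ha)
  by_cases hmove : As ≤ normK K
  swap
  · -- a quadratic offender moving `K`
    obtain ⟨a, haS, han⟩ := SetLike.not_le_iff_exists.1 hmove
    have haA := hAsA haS
    by_cases hp2 : p = 2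
    swap
    · apply hout
      refine odd_quad ψ hK' ⟨a, hAH haA⟩ (p := p) hp2 (fun w => Subtype.ext (hpV w))
        (fun x hx y hy => Subtype.ext (comm_of a haA han x hx y hy)) (fun x hx y hy => Subtype.ext ?_)
        (fun w => Subtype.ext (hAsq a haS a haA w w.2))
      have := comm_of (a * a) (A.mul_mem haA haA) (fun h => han (hodd2 hp2 a haA h)) x hx y hy
      show (x : G) * (a * (a * y * a⁻¹) * a⁻¹) = a * (a * y * a⁻¹) * a⁻¹ * x
      rwa [show a * (a * (y : G) * a⁻¹) * a⁻¹ = a * a * y * (a * a)⁻¹ by group]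
    have h2 := hp2V hp2
    have hIq : ∀ b ∈ As, ∀ c ∈ A, ∀ v ∈ U, φ b (φ c v + v) = φ c v + v := by
      intro b hb c hc v hv
      have := hAsq b hb c hc v hv
      rwa [sub_eq_add_neg, neg_eq_of_add_eq_zero_left (h2 v)] at this
    have hKa : ∀ x ∈ K, ∀ y ∈ K, x * (a * y * a) = a * y * a * x := fun x hx y hy => by
      have := comm_of a haA han x hx y hy
      rwa [hinvA hp2 a haA] at this
    by_cases hfour : ∃ c ∈ As, c ∉ normK K ∧ c * a ∉ normK K
    · obtain ⟨c, hcS, hcn, hcan⟩ := hfour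
      have hcA := hAsA hcS
      have hKc : ∀ x ∈ K, ∀ y ∈ K, x * (c * y * c) = c * y * c * x := fun x hx y hy => by
        have := comm_of c hcA hcn x hx y hy
        rwa [hinvA hp2 c hcA] at this
      have hKac : ∀ x ∈ K, ∀ y ∈ K, x * (a * (c * y * c) * a) = a * (c * y * c) * a * x := by
        intro x hx y hy
        have hacn : a * c ∉ normK K := by rwa [hAc a haA c hcA]
        have := comm_of (a * c) (A.mul_mem haA hcA) hacn x hx y hy
        rwa [mul_inv_rev, hinvA hp2 a haA, hinvA hp2 c hcA,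
          show a * c * y * (c * a) = a * (c * y * c) * a by group] at this
      let K2 := closure ((K : Set G) ∪ {z | ∃ k ∈ K, z = c * k * c})
      let T2 : Set G := (K2 : Set G) ∪ (zpowers c : Subgroup G) ∪ {a}
      let H2 := closure T2
      have hKK2 : K ≤ K2 := fun k hk => subset_closure (Or.inl hk)
      have hKH2 : K ≤ H2 := fun k hk => subset_closure (Or.inl (Or.inl (hKK2 hk)))
      have haH2 : a ∈ H2 := subset_closure (Or.inr rfl)
      have hcH2 : c ∈ H2 := subset_closure (Or.inl (Or.inr (mem_zpowers c)))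
      have hcU : c ∈ stabSub φ U := hUA c hcA
      have hK2U : K2 ≤ stabSub φ U := (closure_le _).2 (by
        rintro g (hg | ⟨k, hk, rfl⟩)
        · exact hUK g hg
        · exact mul_mem (mul_mem hcU (hUK k hk)) hcU)
      have hH2U : H2 ≤ stabSub φ U := (closure_le _).2 (by
        rintro g ((hg | hg) | hg)
        · exact hK2U hg
        · exact (zpowers_le.2 hcU) hg
        · rw [Set.mem_singleton_iff.1 hg]; exact hUA a haA)
      let χ := res φ H2 U (fun g hg => hH2U hg)
      obtain ⟨k, hk, v, hv, hkv⟩ := hne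
      apply hkv
      have hgen2 : closure ((closure (((K.subgroupOf H2 : Subgroup H2) : Set H2) ∪
          {z | ∃ k ∈ K.subgroupOf H2, z = ⟨c, hcH2⟩ * k * ⟨c, hcH2⟩}) : Set H2) ∪
          (zpowers (⟨c, hcH2⟩ : H2) : Subgroup H2) ∪ {(⟨a, haH2⟩ : H2)}) = ⊤ := by
        set R := closure (((K.subgroupOf H2 : Subgroup H2) : Set H2) ∪
          {z | ∃ k ∈ K.subgroupOf H2, z = ⟨c, hcH2⟩ * k * ⟨c, hcH2⟩}) with hR
        apply Subgroup.map_injective H2.subtype_injective
        rw [← MonoidHom.range_eq_map, range_subtype]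
        refine le_antisymm (map_subtype_le _) ((closure_le _).2 ?_)
        have hRK2 : K2 ≤ R.map H2.subtype := by
          refine (closure_le _).2 ?_
          rintro g (hg | ⟨m, hm, rfl⟩)
          · exact ⟨⟨g, hKH2 hg⟩, subset_closure (Or.inl hg), rfl⟩
          · exact ⟨_, subset_closure (Or.inr ⟨⟨m, hKH2 hm⟩, hm, rfl⟩), rfl⟩
        rintro g ((hg | hg) | hg)
        · obtain ⟨x, hx, rfl⟩ := hRK2 hg
          exact ⟨x, subset_closure (Or.inl (Or.inl hx)), rfl⟩
        · obtain ⟨i, rfl⟩ := mem_zpowers_iff.1 hg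
          exact ⟨⟨c, hcH2⟩ ^ i, subset_closure (Or.inl (Or.inr (zpow_mem (mem_zpowers _) i))), rfl⟩
        · rw [Set.mem_singleton_iff.1 hg]
          exact ⟨⟨a, haH2⟩, subset_closure (Or.inr rfl), rfl⟩
      have := two_four χ (hK.subgroupOf hKH2) ⟨a, haH2⟩ ⟨c, hcH2⟩ (Subtype.ext (hsq hp2 a haA))
        (Subtype.ext (hsq hp2 c hcA)) (Subtype.ext (hAc c hcA a haA)) hgen2
        (fun x hx y hy => Subtype.ext (hKa x hx y hy)) (fun x hx y hy => Subtype.ext (hKc x hx y hy))
        (fun x hx y hy => Subtype.ext (hKac x hx y hy))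
        ⟨fun w => Subtype.ext (h2 w), fun w => Subtype.ext (hIq c hcS a haA w w.2)⟩
      exact congrArg (fun f : AddMonoid.End U => ((f ⟨v, hv⟩ : U) : V)) (this ⟨k, hKH2 hk⟩ hk)
    push Not at hfour
    set B := As ⊓ normK K with hBdef
    have hBA : B ≤ A := inf_le_left.trans hAsA
    have hAs2 : Nat.card As ≤ 2 * Nat.card B := by
      rw [show 2 = Nat.card Bool by simp, ← Nat.card_prod]
      refine Nat.card_le_card_of_injective (fun x : As =>
        if h : (x : G) ∈ normK K then (true, (⟨x, x.2, h⟩ : B))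
        else (false, (⟨(x : G) * a, As.mul_mem x.2 haS, hfour x x.2 h⟩ : B))) ?_
      intro x y hxy
      by_cases hx : (x : G) ∈ normK K <;> by_cases hy : (y : G) ∈ normK K <;>
        simp only [hx, hy, dite_true, dite_false, Prod.ext_iff, Subtype.ext_iff] at hxy
      · exact Subtype.ext hxy.2
      · exact absurd hxy.1 (by decide)
      · exact absurd hxy.1 (by decide)
      · exact Subtype.ext (mul_right_cancel hxy.2)
    obtain ⟨k, hk, v, hv, hkv⟩ := hne
    apply hkv
    have hfix : fixU φ U As ≤ fixU φ U (B ⊔ zpowers a) :=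
      fixU_mono φ (sup_le inf_le_left (zpowers_le.2 haS))
    have hA1cnt : Nat.card ↥(B ⊓ centralizer (K : Set G)) *
        Nat.card (fixU φ U (B ⊓ centralizer (K : Set G))) ≤ Nat.card As * Nat.card (fixU φ U As) := by
      rw [hAsf]; exact hP _ (inf_le_left.trans hBA)
    refine two_case φ h2 hK U hUK a (hUA a haA) (hsq hp2 a haA) hKa B (fun b hb => hb.2)
      (fun b hb => hAc b (hBA hb) a haA) (fun b hb => hsq hp2 b (hBA hb))
      (fun b hb c hc => hAc b (hBA hb) c (hBA hc)) (fun b hb => hUA b (hBA hb))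
      (fun b hb w hw => hIq b hb.1 a haA w hw) ?_ ?_ k hk v hv
    · refine Nat.le_of_mul_le_mul_left ?_ (Nat.card_pos (α := ↥(B ⊓ centralizer (K : Set G))))
      calc _ ≤ Nat.card As * Nat.card (fixU φ U As) := hA1cnt
        _ ≤ 2 * Nat.card B * Nat.card (fixU φ U B) :=
          Nat.mul_le_mul hAs2 (AddSubgroup.card_le_of_le (fixU_mono φ inf_le_left))
        _ ≤ 2 * (Nat.card ↥(B ⊓ centralizer (K : Set G)) *
              Nat.card (Set.range fun b : B => fun k : K => (b : G) * k * (b : G)⁻¹)) *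
              Nat.card (fixU φ U B) :=
          Nat.mul_le_mul_right _ (Nat.mul_le_mul_left _ (hB B inf_le_right))
        _ = _ := by ring
    · intro hc
      rw [inf_eq_left.2 hc] at hA1cnt ⊢
      refine Nat.le_of_mul_le_mul_left ?_ (Nat.card_pos (α := ↥B))
      calc _ ≤ Nat.card As * Nat.card (fixU φ U As) := hA1cnt
        _ ≤ 2 * Nat.card B * Nat.card (fixU φ U (B ⊔ zpowers a)) :=
          Nat.mul_le_mul hAs2 (AddSubgroup.card_le_of_le hfix)
        _ = _ := by ring
  -- the quadratic offender normalises `K`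
  obtain ⟨a, haA, han⟩ := SetLike.not_le_iff_exists.1 hA
  by_cases hcent : As ≤ centralizer (K : Set G)
  · set U' := fixU φ U As with hU'
    have hle : U' ≤ U := fun v hv => hv.1
    have hU'A : ∀ g ∈ A, ∀ v ∈ U', φ g v ∈ U' := by
      intro g hg v hv
      refine ⟨hUA g hg v hv.1, fun b hb => ?_⟩
      rw [← phi_mul, hAc b (hAsA hb) g hg, phi_mul, hv.2 b hb]
    have hU'K : ∀ g ∈ K, ∀ v ∈ U', φ g v ∈ U' := by
      intro g hg v hv
      refine ⟨hUK g hg v hv.1, fun b hb => ?_⟩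
      rw [← phi_mul, ← mem_centralizer_iff.1 (hcent hb) g hg, phi_mul, hv.2 b hb]
    have hmodU : ∀ v ∈ U, φ a v - v ∈ U' := fun v hv =>
      ⟨U.sub_mem (hUA a haA v hv) hv, fun b hb => hAsq b hb a haA v hv⟩
    have hKa := comm_of a haA han
    have htriv : (∀ k ∈ K, ∀ v ∈ U', φ k v = v) → False := by
      intro h0
      have hconj : ∀ k ∈ K, ∀ v ∈ U', φ (a * k * a⁻¹) v = v := by
        intro k hk v hv
        rw [phi_mul, phi_mul, h0 k hk _ (hU'A _ (A.inv_mem haA) v hv), ← phi_mul, mul_inv_cancel, phi_one]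
      have hmod : ∀ k ∈ K, ∀ v ∈ U, φ k v - v ∈ U' := by
        refine trivial_mod φ hK.perf U U' hUK hU'K fun x hx y hy v hv => ?_
        have key : ∀ w ∈ U, φ (a * x * a⁻¹) w - φ x w ∈ U' := by
          intro w hw
          have h1 := hmodU (φ x w) (hUK x hx w hw)
          have h2 := hmodU w hw
          have e : φ (a * x * a⁻¹) w - φ x w =
              (φ a (φ x w) - φ x w) - φ (a * x * a⁻¹) (φ a w - w) := by
            rw [map_sub, ← phi_mul φ (a * x * a⁻¹) a, show a * x * a⁻¹ * a = a * x by group, phi_mul φ a x]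
            abel
          rw [e, hconj x hx _ h2]
          exact U'.sub_mem h1 h2
        have h3 := key (φ y v) (hUK y hy v hv)
        have h4 := hU'K y hy _ (key v hv)
        have e : φ (x * y) v - φ (y * x) v =
            φ y (φ (a * x * a⁻¹) v - φ x v) - (φ (a * x * a⁻¹) (φ y v) - φ x (φ y v)) := by
          rw [map_sub, ← phi_mul φ y (a * x * a⁻¹), ← phi_mul φ (a * x * a⁻¹) y, ← hKa y hy x hx,
            phi_mul φ x y, phi_mul φ y x]
          abel
        rw [e]
        exact U'.sub_mem h4 h3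
      obtain ⟨k, hk, v, hv, hkv⟩ := hne
      exact hkv (trivial_of_series φ hK.perf U U' hUK h0 hmod k hk v hv)
    have hcard : Nat.card U' < n := by
      rw [← hn]
      refine lt_of_le_of_ne (AddSubgroup.card_le_of_le hle) fun e => ?_
      have heq : U' = U := AddSubgroup.eq_of_le_of_card_ge hle e.ge
      have hnf := no_full φ A hAc hpV hAp U hUA (fun W hC hW => heq ▸ hAsW W hC hW)
      obtain ⟨k, hk, v, hv, hkv⟩ := hne
      apply hkv
      have h1 : ∀ x ∈ K, ∀ w ∈ U, φ (a * x * a⁻¹) w = φ x w := by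
        intro x hx w hw
        rw [phi_mul, phi_mul, hnf _ (A.inv_mem haA) w hw, hnf a haA _ (hUK x hx w hw)]
      have := trivial_mod φ hK.perf U ⊥ hUK
        (fun k _ v hv => by rw [AddSubgroup.mem_bot] at hv ⊢; rw [hv, map_zero])
        (fun x hx y hy w hw => by
          rw [AddSubgroup.mem_bot, sub_eq_zero, phi_mul, phi_mul, ← h1 y hy w hw, ← phi_mul,
            hKa x hx y hy, phi_mul, h1 y hy _ (hUK x hx w hw)]) k hk v hv
      rwa [AddSubgroup.mem_bot, sub_eq_zero] at this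
    refine hA (ih _ hcard U' hU'A hU'K (fun B hB => ?_) ?_ rfl)
    · have e : fixU φ U' A = fixU φ U A := le_antisymm (fun v hv => ⟨hle hv.1, hv.2⟩)
        (fun v hv => ⟨⟨hv.1, fun b hb => hv.2 b (hAsA hb)⟩, hv.2⟩)
      rw [e]
      exact le_trans (Nat.mul_le_mul_left _ (AddSubgroup.card_le_of_le
        (fun v hv => ⟨hle hv.1, hv.2⟩ : fixU φ U' B ≤ fixU φ U B))) (hP B hB)
    · by_contra h0
      push Not at h0
      exact htriv h0
  obtain ⟨b, hbS, hbc⟩ := SetLike.not_le_iff_exists.1 hcent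
  have hbA := hAsA hbS
  have hne' : ∃ k ∈ K, b * k * b⁻¹ ≠ k := by
    by_contra hall
    push Not at hall
    exact hbc (mem_centralizer_iff.2 fun k hk => (mul_inv_eq_iff_eq_mul.1 (hall k hk)).symm)
  by_cases hp2 : p = 2
  swap
  · apply hout
    refine odd_moved ψ hK' ⟨a, hAH haA⟩ ⟨b, hAH hbA⟩ (hp.out.odd_of_ne_two hp2)
      (Subtype.ext (hAp b hbA)) (fun x hx y hy => Subtype.ext (comm_of a haA han x hx y hy))
      (fun x hx => hmove hbS x hx) (Subtype.ext (hAc b hbA a haA)) ?_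
      (fun w => Subtype.ext (hAsq b hbS b hbA w w.2)) (fun w => Subtype.ext ?_)
    · obtain ⟨k, hk, hkb⟩ := hne'
      exact ⟨⟨k, hKH hk⟩, hk, fun e => hkb (congrArg Subtype.val e)⟩
    · show φ a (φ b w - (w : V)) = φ b w - (w : V)
      have e := hAsq b hbS a haA w w.2
      rw [map_sub, ← phi_mul, hAc b hbA a haA, phi_mul] at e
      rw [map_sub]
      rw [sub_eq_sub_iff_sub_eq_sub] at e
      exact e
  have h2 := hp2V hp2
  obtain ⟨k, hk, v, hv, hkv⟩ := hne
  apply hkv
  refine two_case φ h2 hK U hUK a (hUA a haA) (hsq hp2 a haA)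
    (fun x hx y hy => by
      have := comm_of a haA han x hx y hy
      rwa [hinvA hp2 a haA] at this)
    As (fun b hb => hmove hb) (fun b hb => hAc b (hAsA hb) a haA)
    (fun b hb => hsq hp2 b (hAsA hb)) (fun b hb c hc => hAc b (hAsA hb) c (hAsA hc))
    (fun b hb => hUA b (hAsA hb))
    (fun b hb w hw => by
      have := hAsq b hb a haA w hw
      rwa [sub_eq_add_neg, neg_eq_of_add_eq_zero_left (h2 w)] at this)
    ?_ (fun hc => absurd hc hcent) k hk v hv
  refine Nat.le_of_mul_le_mul_left ?_ (Nat.card_pos (α := ↥(As ⊓ centralizer (K : Set G))))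
  calc _ ≤ Nat.card As * Nat.card (fixU φ U As) := by rw [hAsf]; exact hP _ (inf_le_left.trans hAsA)
    _ ≤ (Nat.card ↥(As ⊓ centralizer (K : Set G)) *
          Nat.card (Set.range fun b : As => fun k : K => (b : G) * k * (b : G)⁻¹)) *
          Nat.card (fixU φ U As) := Nat.mul_le_mul_right _ (hB As hmove)
    _ ≤ 2 * ((Nat.card ↥(As ⊓ centralizer (K : Set G)) *
          Nat.card (Set.range fun b : As => fun k : K => (b : G) * k * (b : G)⁻¹)) *
          Nat.card (fixU φ U As)) := Nat.le_mul_of_pos_left _ two_pos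
    _ = _ := by ring

end Cfsg.Lib.Components.Timmesfeld
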