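import Mathlib

/-!
Finite rings of characteristic two with an anti-involution whose traces are central, together with
commuting involutory automorphisms, admitting no invariant ideal.
-/

namespace Cfsg.Lib.Components.Timmesfeld

open Function

variable {R : Type*} [Ring R]

/-- the data -/
structure QuadData (R : Type*) [Ring R] (ι : Type*) where
  st : R →+ R
  s : ι → (R →+* R)
  two : ∀ x : R, x + x = 0
  st_mul : ∀ x y, st (x * y) = st y * st x
  st_st : ∀ x, st (st x) = x
  cent : ∀ r x, (r + st r) * x = x * (r + st r)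
  invol : ∀ b x, s b (s b x) = x
  comm : ∀ b c x, s b (s c x) = s c (s b x)
  s_st : ∀ b x, s b (st x) = st (s b x)
  fix : ∀ b r, s b (r + st r) = r + st r
  irr : ∀ I : AddSubgroup R, (∀ x y, y ∈ I → x * y ∈ I) → (∀ x y, y ∈ I → y * x ∈ I) →
    (∀ y ∈ I, st y ∈ I) → (∀ b, ∀ y ∈ I, s b y ∈ I) → (∃ y ∈ I, y ≠ 0) → (1 : R) ∈ I
  noncomm : ∃ x y : R, x * y ≠ y * x
  nontriv : ∃ r, r + st r ≠ 0

namespace QuadData

variable {ι : Type*} (Q : QuadData R ι)

theorem eq_of_add {x y : R} (Q : QuadData R ι) (h : x + y = 0) : x = y := by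
  have := Q.two y
  calc x = x + (y + y) := by rw [this, add_zero]
    _ = (x + y) + y := by rw [add_assoc]
    _ = y := by rw [h, zero_add]

theorem st_one : Q.st 1 = 1 := by
  have h := Q.st_mul (Q.st 1) 1
  rw [mul_one, Q.st_st] at h
  rw [mul_one] at h
  exact h.symm

/-- the traces -/
def J : AddSubgroup R := (AddMonoidHom.id R + Q.st).range

theorem mem_J {x : R} : x ∈ Q.J ↔ ∃ r, r + Q.st r = x := Iff.rfl

theorem J_central {j : R} (hj : j ∈ Q.J) (x : R) : j * x = x * j := by
  obtain ⟨r, rfl⟩ := Q.mem_J.1 hj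
  exact Q.cent r x

theorem J_fix {j : R} (hj : j ∈ Q.J) (b : ι) : Q.s b j = j := by
  obtain ⟨r, rfl⟩ := Q.mem_J.1 hj
  exact Q.fix b r

theorem J_sym {j : R} (hj : j ∈ Q.J) : Q.st j = j := by
  obtain ⟨r, rfl⟩ := Q.mem_J.1 hj
  rw [map_add, Q.st_st, add_comm]

theorem J_mul {j : R} (hj : j ∈ Q.J) {k : R} (hk : k ∈ Q.J) : j * k ∈ Q.J := by
  obtain ⟨r, rfl⟩ := Q.mem_J.1 hk
  refine Q.mem_J.2 ⟨j * r, ?_⟩
  rw [Q.st_mul, Q.J_sym hj, mul_add, ← Q.J_central hj (Q.st r)]

/-- nonzero traces are units -/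
theorem J_isUnit [Finite R] {j : R} (hj : j ∈ Q.J) (h0 : j ≠ 0) : IsUnit j := by
  let I : AddSubgroup R :=
    { carrier := {y | ∃ x, j * x = y}
      zero_mem' := ⟨0, mul_zero _⟩
      add_mem' := by
        rintro _ _ ⟨x, rfl⟩ ⟨y, rfl⟩
        exact ⟨x + y, mul_add _ _ _⟩
      neg_mem' := by
        rintro _ ⟨x, rfl⟩
        exact ⟨-x, mul_neg _ _⟩ }
  have h1 : (1 : R) ∈ I := by
    refine Q.irr I ?_ ?_ ?_ ?_ ⟨j, ⟨1, mul_one j⟩, h0⟩
    · rintro x _ ⟨y, rfl⟩
      exact ⟨x * y, by rw [← mul_assoc, Q.J_central hj, mul_assoc]⟩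
    · rintro x _ ⟨y, rfl⟩
      exact ⟨y * x, (mul_assoc _ _ _).symm⟩
    · rintro _ ⟨y, rfl⟩
      exact ⟨Q.st y, by rw [Q.st_mul, Q.J_sym hj, Q.J_central hj]⟩
    · rintro b _ ⟨y, rfl⟩
      exact ⟨Q.s b y, by rw [map_mul, Q.J_fix hj]⟩
  obtain ⟨x, hx⟩ := h1
  exact ⟨⟨j, x, hx, by rw [← Q.J_central hj x, hx]⟩, rfl⟩

theorem J_one [Finite R] : (1 : R) ∈ Q.J := by
  obtain ⟨r, hr⟩ := Q.nontriv
  have hj : r + Q.st r ∈ Q.J := Q.mem_J.2 ⟨r, rfl⟩
  obtain ⟨v, hv⟩ := Q.J_isUnit hj hr
  have hpow : ∀ n : ℕ, (r + Q.st r) ^ (n + 1) ∈ Q.J := fun n => by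
    induction n with
    | zero => simpa using hj
    | succ n ih => rw [pow_succ]; exact Q.J_mul ih hj
  have h := hpow (orderOf v - 1)
  have hpos : 0 < orderOf v := orderOf_pos v
  rw [Nat.sub_add_cancel hpos, ← hv, ← Units.val_pow_eq_pow_val, pow_orderOf_eq_one] at h
  simpa using h

/-- symmetric elements -/
def Sym (x : R) : Prop := Q.st x = x

theorem exists_w [Finite R] : ∃ w, w + Q.st w = 1 := Q.mem_J.1 Q.J_one

theorem sym_central [Finite R] {z : R} (hz : Q.Sym z) (hc : ∀ x, z * x = x * z) : z ∈ Q.J := by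
  obtain ⟨w, hw⟩ := Q.exists_w
  refine Q.mem_J.2 ⟨z * w, ?_⟩
  rw [Q.st_mul, hz, ← hc (Q.st w), ← mul_add, hw, mul_one]

theorem sym_bracket {h g : R} (hh : Q.Sym h) (hg : Q.Sym g) : h * g + g * h ∈ Q.J :=
  Q.mem_J.2 ⟨h * g, by rw [Q.st_mul, hh, hg]⟩

theorem bracket_w {w : R} (hw : w + Q.st w = 1) {h : R} (hh : Q.Sym h) :
    h * w + w * h + h ∈ Q.J := by
  refine Q.mem_J.2 ⟨h * w, ?_⟩
  have : Q.st w = w + 1 := by
    rw [← hw, ← add_assoc, Q.two, zero_add]
  rw [Q.st_mul, hh, this, add_mul, one_mul]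
  abel

theorem decompose [Finite R] {w : R} (hw : w + Q.st w = 1) (r : R) :
    ∃ c ∈ Q.J, ∃ h, Q.Sym h ∧ r = h + c * w := by
  have hc : r + Q.st r ∈ Q.J := Q.mem_J.2 ⟨r, rfl⟩
  refine ⟨_, hc, r + (r + Q.st r) * w, ?_, ?_⟩
  · have : Q.st w = w + 1 := by rw [← hw, ← add_assoc, Q.two, zero_add]
    show Q.st _ = _
    rw [map_add, Q.st_mul, Q.J_sym hc, this, add_mul, one_mul, Q.J_central hc w]
    calc Q.st r + (w * (r + Q.st r) + (r + Q.st r))
        = (Q.st r + Q.st r) + r + w * (r + Q.st r) := by abel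
      _ = r + w * (r + Q.st r) := by rw [Q.two, zero_add]
  · rw [add_assoc, Q.two, add_zero]

theorem sq_mem [Finite R] {h : R} (hh : Q.Sym h) : h * h ∈ Q.J := by
  obtain ⟨w, hw⟩ := Q.exists_w
  have hsym : Q.Sym (h * h) := by show Q.st _ = _; rw [Q.st_mul, hh]
  refine Q.sym_central hsym fun x => ?_
  have key : ∀ g, (h * g + g * h) ∈ Q.J → h * h * g = g * (h * h) := by
    intro g hg
    have hg' := Q.J_central hg h
    rw [add_mul, mul_add, mul_assoc h g h, ← mul_assoc h h g, mul_assoc g h h] at hg'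
    -- `h g h + g h h = h h g + h g h`
    have e : h * h * g + g * (h * h) = 0 := by
      calc h * h * g + g * (h * h) = (h * h * g + h * (g * h)) + (h * (g * h) + g * (h * h)) := by
            rw [add_assoc, ← add_assoc (h * (g * h)), Q.two, zero_add]
        _ = 0 := by rw [hg', Q.two]
    exact Q.eq_of_add e
  obtain ⟨c, hc, g, hg, rfl⟩ := Q.decompose hw x
  have h1 := key g (Q.sym_bracket hh hg)
  have h2 : h * h * w = w * (h * h) := by
    have hf := Q.J_central (Q.bracket_w hw hh) h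
    simp only [add_mul, mul_add] at hf
    rw [mul_assoc h w h, ← mul_assoc h h w, mul_assoc w h h] at hf
    have hf' : h * (w * h) + w * (h * h) = h * h * w + h * (w * h) := add_right_cancel hf
    exact Q.eq_of_add (by
      calc h * h * w + w * (h * h) = (h * h * w + h * (w * h)) + (h * (w * h) + w * (h * h)) := by
            rw [add_assoc, ← add_assoc (h * (w * h)), Q.two, zero_add]
        _ = 0 := by rw [hf', Q.two])
  have h3 : h * h * (c * w) = c * w * (h * h) := by
    rw [← mul_assoc, ← Q.J_central hc (h * h), mul_assoc c, h2, ← mul_assoc]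
  rw [mul_add, add_mul, h1, h3]

theorem sqrt_mem [Finite R] {c : R} (hc : c ∈ Q.J) : ∃ d ∈ Q.J, d * d = c := by
  let f : Q.J → Q.J := fun d => ⟨d.1 * d.1, Q.J_mul d.2 d.2⟩
  have hf : Injective f := by
    intro d d' h
    have h' : d.1 * d.1 = d'.1 * d'.1 := congrArg Subtype.val h
    apply Subtype.ext
    apply Q.eq_of_add
    by_contra hne
    obtain ⟨v, hv⟩ := Q.J_isUnit (Q.J.add_mem d.2 d'.2) hne
    apply hne
    have h0 : (d.1 + d'.1) * (d.1 + d'.1) = 0 := by
      rw [add_mul, mul_add, mul_add, h', Q.J_central d.2 d'.1]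
      calc d'.1 * d'.1 + d'.1 * d.1 + (d'.1 * d.1 + d'.1 * d'.1)
          = (d'.1 * d'.1 + d'.1 * d'.1) + (d'.1 * d.1 + d'.1 * d.1) := by abel
        _ = 0 := by rw [Q.two, Q.two, add_zero]
    rw [← hv] at h0 ⊢
    exact (Units.mul_right_eq_zero v).1 h0
  obtain ⟨d, hd⟩ := (Finite.surjective_of_injective hf) ⟨c, hc⟩
  exact ⟨d, d.2, congrArg Subtype.val hd⟩

/-- a symmetric element fixed by all automorphisms, of square zero, outside the traces -/
theorem exists_u [Finite R] : ∃ u, Q.Sym u ∧ u ∉ Q.J ∧ u * u = 0 ∧ ∀ b, Q.s b u = u := by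
  classical
  obtain ⟨w, hw⟩ := Q.exists_w
  let Good : Set R := {h | Q.Sym h ∧ h ∉ Q.J}
  have hne : Good.Nonempty := by
    by_contra hempty
    rw [Set.not_nonempty_iff_eq_empty, Set.eq_empty_iff_forall_notMem] at hempty
    obtain ⟨x, y, hxy⟩ := Q.noncomm
    apply hxy
    obtain ⟨c, hc, g, hg, rfl⟩ := Q.decompose hw x
    obtain ⟨c', hc', g', hg', rfl⟩ := Q.decompose hw y
    have hgJ : g ∈ Q.J := by_contra fun h => hempty g ⟨hg, h⟩
    have hgJ' : g' ∈ Q.J := by_contra fun h => hempty g' ⟨hg', h⟩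
    have c1 : ∀ {j}, j ∈ Q.J → Commute j (g' + c' * w) := fun hj => Q.J_central hj _
    have c2 : Commute w (g' + c' * w) := by
      refine Commute.add_right (Q.J_central hgJ' w).symm ?_
      exact Commute.mul_right (Q.J_central hc' w).symm (Commute.refl w)
    exact Commute.add_left (c1 hgJ) (Commute.mul_left (c1 hc) c2)
  -- as many automorphisms as possible fix it modulo the traces
  let m : R → Set (R →+* R) := fun h => {f | (∃ b, Q.s b = f) ∧ f h + h ∈ Q.J}
  haveI : Finite (R →+* R) := Finite.of_injective (fun f : R →+* R => (f : R → R)) DFunLike.coe_injective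
  obtain ⟨h, hh, hmax⟩ := Set.exists_max_image Good (fun h => (m h).ncard) (Set.toFinite _) hne
  have hfix : ∀ b, Q.s b h + h ∈ Q.J := by
    by_contra hnot
    push Not at hnot
    obtain ⟨b, hb⟩ := hnot
    have hh' : Q.s b h + h ∈ Good := by
      refine ⟨?_, hb⟩
      show Q.st _ = _
      rw [map_add, ← Q.s_st, hh.1]
    have := hmax _ hh'
    have hlt : (m h).ncard < (m (Q.s b h + h)).ncard := by
      apply Set.ncard_lt_ncard _ (Set.toFinite _)
      rw [Set.ssubset_iff_exists]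
      refine ⟨?_, Q.s b, ⟨⟨b, rfl⟩, ?_⟩, fun hm => hb hm.2⟩
      · rintro _ ⟨⟨c, rfl⟩, hc⟩
        refine ⟨⟨c, rfl⟩, ?_⟩
        rw [map_add, Q.comm]
        have e : Q.s b (Q.s c h) + Q.s c h + (Q.s b h + h) =
            (Q.s b (Q.s c h + h)) + (Q.s c h + h) := by rw [map_add]; abel
        rw [e, Q.J_fix hc, Q.two]
        exact Q.J.zero_mem
      · rw [map_add, Q.invol, add_comm h, Q.two]
        exact Q.J.zero_mem
    omega
  have hfix' : ∀ b, Q.s b h = h := by
    intro b
    have hl := hfix b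
    have hsq := Q.J_fix (Q.sq_mem hh.1) b
    rw [map_mul] at hsq
    apply Q.eq_of_add
    by_contra hne'
    obtain ⟨v, hv⟩ := Q.J_isUnit hl hne'
    apply hne'
    have hc := Q.J_central hl h
    have e1 : Q.s b h = (Q.s b h + h) + h := by rw [add_assoc, Q.two, add_zero]
    have h0 : (Q.s b h + h) * (Q.s b h + h) = 0 := by
      set l := Q.s b h + h
      rw [e1] at hsq
      simp only [add_mul, mul_add] at hsq
      rw [← hc] at hsq
      calc l * l = (l * l + l * h + (l * h + h * h)) + h * h := by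
            rw [show l * l + l * h + (l * h + h * h) + h * h
              = l * l + (l * h + l * h) + (h * h + h * h) by abel, Q.two, Q.two, add_zero, add_zero]
        _ = 0 := by rw [hsq, Q.two]
    rw [← hv] at h0 ⊢
    exact (Units.mul_right_eq_zero v).1 h0
  obtain ⟨d, hd, hdd⟩ := Q.sqrt_mem (Q.sq_mem hh.1)
  refine ⟨h + d, ?_, fun hin => hh.2 ?_, ?_, fun b => by rw [map_add, hfix', Q.J_fix hd]⟩
  · show Q.st _ = _
    rw [map_add, hh.1, Q.J_sym hd]
  · have := Q.J.add_mem hin hd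
    rwa [add_assoc, Q.two, add_zero] at this
  · rw [add_mul, mul_add, mul_add, hdd, Q.J_central hd h]
    calc h * h + h * d + (h * d + h * h) = (h * h + h * h) + (h * d + h * d) := by abel
      _ = 0 := by rw [Q.two, Q.two, add_zero]

/-- the structure theorem -/
theorem bound [Finite R] :
    Nat.card (Set.range fun b => (Q.s b : R → R)) ≤ Nat.card Q.J ∧
    ((∀ b x, Q.s b x = x) ∨
      Nat.card Q.J * Nat.card Q.J * Nat.card {x : R // ∀ b, Q.s b x = x} ≤ Nat.card R) ∧
    ∀ b x, x * Q.s b x = Q.s b x * x → ∀ z, (Q.s b x + x) * z = z * (Q.s b x + x) := by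
  classical
  obtain ⟨u, hu, huJ, huu, hus⟩ := Q.exists_u
  obtain ⟨w, hw⟩ := Q.exists_w
  have hu0 : u ≠ 0 := fun h => huJ (h ▸ Q.J.zero_mem)
  -- `u R u = J u`
  have huRu : ∀ x, ∃ c ∈ Q.J, u * x * u = c * u := by
    intro x
    obtain ⟨c, hc, g, hg, rfl⟩ := Q.decompose hw x
    refine ⟨(u * g + g * u) + c * (u * w + w * u + u),
      Q.J.add_mem (Q.sym_bracket hu hg) (Q.J_mul hc (Q.bracket_w hw hu)), ?_⟩
    simp only [add_mul, mul_add, mul_assoc, huu, mul_zero, add_zero]
    rw [← mul_assoc u c, ← Q.J_central hc u, mul_assoc]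
  have hex : ∃ x, u * x * u ≠ 0 := by
    by_contra hall
    push Not at hall
    let I : AddSubgroup R := AddSubgroup.closure {z | ∃ x y, z = x * u * y}
    have closed : ∀ (f : R → R), (∀ a b, f (a + b) = f a + f b) →
        (∀ x y, f (x * u * y) ∈ I) → ∀ z ∈ I, f z ∈ I := by
      intro f hf hgen z hz
      induction hz using AddSubgroup.closure_induction with
      | mem z hz => obtain ⟨x, y, rfl⟩ := hz; exact hgen x y
      | zero =>
        have := hf 0 0
        rw [add_zero] at this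
        rw [show f 0 = 0 by simpa using this]
        exact I.zero_mem
      | add a b _ _ iha ihb => rw [hf]; exact I.add_mem iha ihb
      | neg a _ iha => rw [show (-a : R) = a from (Q.eq_of_add (by simp : -a + a = 0))]; exact iha
    have h1 : (1 : R) ∈ I := by
      refine Q.irr I ?_ ?_ ?_ ?_ ⟨u, AddSubgroup.subset_closure ⟨1, 1, by simp⟩, hu0⟩
      · intro x z hz
        exact closed (x * ·) (mul_add x)
          (fun a b => AddSubgroup.subset_closure ⟨x * a, b, by simp [mul_assoc]⟩) z hz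
      · intro x z hz
        exact closed (· * x) (fun a b => add_mul a b x)
          (fun a b => AddSubgroup.subset_closure ⟨a, b * x, by simp [mul_assoc]⟩) z hz
      · exact closed Q.st (map_add Q.st) fun a b => AddSubgroup.subset_closure
          ⟨Q.st b, Q.st a, by rw [Q.st_mul, Q.st_mul, hu, mul_assoc]⟩
      · intro b
        exact closed (Q.s b) (map_add (Q.s b)) fun a c => AddSubgroup.subset_closure
          ⟨Q.s b a, Q.s b c, by rw [map_mul, map_mul, hus]⟩
    apply hu0
    have h2 : ∀ z ∈ I, u * z = 0 := by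
      intro z hz'
      induction hz' using AddSubgroup.closure_induction with
      | mem z hz =>
        obtain ⟨x, y, rfl⟩ := hz
        rw [← mul_assoc, ← mul_assoc, hall x, zero_mul]
      | zero => exact mul_zero u
      | add a b _ _ iha ihb => rw [mul_add, iha, ihb, add_zero]
      | neg a _ iha => rw [mul_neg, iha, neg_zero]
    have := h2 1 h1
    rwa [mul_one] at this
  obtain ⟨x0, hx0⟩ := hex
  obtain ⟨c0, hc0, hc0u⟩ := huRu x0
  have hc00 : c0 ≠ 0 := fun h => hx0 (by rw [hc0u, h, zero_mul])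
  obtain ⟨v0, hv0⟩ := Q.J_isUnit hc0 hc00
  set r : R := x0 * (v0⁻¹ : Rˣ) with hr
  have huru : u * r * u = u := by
    have hcomm : Commute ((v0⁻¹ : Rˣ) : R) u := (show Commute (v0 : R) u from hv0 ▸ Q.J_central hc0 u).units_inv_left
    rw [hr, ← mul_assoc, mul_assoc (u * x0), hcomm.eq, ← mul_assoc, hc0u, ← hv0, mul_assoc, ← hcomm.eq,
      ← mul_assoc, Units.mul_inv, one_mul]
  obtain ⟨e, he⟩ : ∃ e, e = u * r := ⟨_, rfl⟩
  have heu : e * u = u := by rw [he]; exact huru
  have hee : e * e = e := by rw [he, ← mul_assoc, huru]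
  have hue : u * e = 0 := by rw [he, ← mul_assoc, huu, zero_mul]
  have cancel : ∀ {j : R}, j ∈ Q.J → j * u = 0 → j = 0 := by
    intro j hj h
    by_contra hne
    obtain ⟨v, hv⟩ := Q.J_isUnit hj hne
    rw [← hv, Units.mul_right_eq_zero] at h
    exact hu0 h
  have hte : e + Q.st e = 1 := by
    set τ := e + Q.st e with hτ
    have hτJ : τ ∈ Q.J := Q.mem_J.2 ⟨e, rfl⟩
    have hstee : Q.st e * Q.st e = Q.st e := by rw [← Q.st_mul, hee]
    have hst : Q.st e = e + τ := by rw [hτ, ← add_assoc, Q.two, zero_add]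
    rw [hst] at hstee
    simp only [add_mul, mul_add, hee, Q.J_central hτJ e] at hstee
    have hττ : τ * τ = τ := by
      have : e + e * τ + (e * τ + τ * τ) = e + τ * τ := by
        rw [show e + e * τ + (e * τ + τ * τ) = e + τ * τ + (e * τ + e * τ) by abel, Q.two, add_zero]
      rw [this] at hstee
      exact add_left_cancel hstee
    by_cases h0 : τ = 0
    · exfalso
      rw [h0, add_zero] at hst
      have heJ : e ∈ Q.J := hee ▸ Q.sq_mem (show Q.Sym e from hst)
      apply hu0
      have h1 : e * u = u * e := Q.J_central heJ u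
      rw [heu, hue] at h1
      exact h1
    · obtain ⟨v, hv⟩ := Q.J_isUnit hτJ h0
      rw [← hv] at hττ ⊢
      have := congrArg (((v⁻¹ : Rˣ) : R) * ·) hττ
      simpa using this
  obtain ⟨e', he'⟩ : ∃ e', e' = 1 + e := ⟨_, rfl⟩
  have hste : Q.st e = e' := by
    rw [he', ← hte]
    calc Q.st e = Q.st e + (e + e) := by rw [Q.two, add_zero]
      _ = e + Q.st e + e := by abel
  have hste' : Q.st e' = e := by rw [← hste, Q.st_st]
  have hee' : e * e' = 0 := by rw [he', mul_add, mul_one, hee, Q.two]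
  have he'e : e' * e = 0 := by rw [he', add_mul, one_mul, hee, Q.two]
  have he'e' : e' * e' = e' := by
    conv_lhs => arg 1; rw [he']
    rw [add_mul, one_mul, hee', add_zero]
  have he'u : e' * u = 0 := by rw [he', add_mul, one_mul, heu, Q.two]
  have hue' : u * e' = u := by rw [he', mul_add, mul_one, hue, add_zero]
  have hsum : e + e' = 1 := by rw [he', add_comm 1 e, ← add_assoc, Q.two, zero_add]
  have mv : ∀ {j : R}, j ∈ Q.J → ∀ x z : R, x * (j * z) = j * (x * z) := by
    intro j hj x z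
    rw [← mul_assoc, ← Q.J_central hj x, mul_assoc]
  -- the corners
  have hcorner : ∀ x, ∃ c ∈ Q.J, e * x * e = c * e := by
    intro x
    obtain ⟨c, hc, hcu⟩ := huRu (r * x)
    refine ⟨c, hc, ?_⟩
    rw [he]
    calc u * r * x * (u * r) = u * (r * x) * u * r := by simp [mul_assoc]
      _ = c * u * r := by rw [hcu]
      _ = c * (u * r) := mul_assoc _ _ _
  have hcorner' : ∀ x, ∃ c ∈ Q.J, e' * x * e' = c * e' := by
    intro x
    obtain ⟨c, hc, hce⟩ := hcorner (Q.st x)
    refine ⟨c, hc, ?_⟩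
    have := congrArg Q.st hce
    simp only [Q.st_mul, Q.st_st, hste, Q.J_sym hc] at this
    rw [← mul_assoc] at this
    rw [this, Q.J_central hc]
  obtain ⟨y, hy⟩ : ∃ y, y = e' * r * e := ⟨_, rfl⟩
  have huy : u * y = e := by
    rw [hy, ← mul_assoc, ← mul_assoc, hue', ← he, hee]
  have hyu : y * u = e' := by
    have h1 : y * u = e' * r * u := by rw [hy, mul_assoc (e' * r), heu]
    obtain ⟨c, hc, hce⟩ := hcorner' (r * u)
    have h2 : y * u = c * e' := by
      rw [h1, ← hce]
      simp only [mul_assoc, hue']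
    have h3 : u * (y * u) = u := by rw [← mul_assoc, huy, heu]
    rw [h2, mv hc, hue'] at h3
    have h4 : c = 1 := by
      apply Q.eq_of_add
      apply cancel (Q.J.add_mem hc Q.J_one)
      rw [add_mul, one_mul, h3, Q.two]
    rw [h2, h4, one_mul]
  have hey : e * y = 0 := by rw [hy, ← mul_assoc, ← mul_assoc, hee', zero_mul, zero_mul]
  have he'y : e' * y = y := by rw [hy, ← mul_assoc, ← mul_assoc, he'e']
  have hye : y * e = y := by rw [hy, mul_assoc, hee]
  have hye' : y * e' = 0 := by rw [hy, mul_assoc, hee', mul_zero]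
  have hyy : y * y = 0 := by
    have : y * y = (y * e) * y := by rw [hye]
    rw [this, mul_assoc, hey, mul_zero]
  have hrep : ∀ x, ∃ a ∈ Q.J, ∃ b ∈ Q.J, ∃ c ∈ Q.J, ∃ d ∈ Q.J,
      x = a * e + b * e' + c * u + d * y := by
    intro x
    obtain ⟨a, ha, hax⟩ := hcorner x
    obtain ⟨b, hb, hbx⟩ := hcorner' x
    obtain ⟨c, hc, hcx⟩ := hcorner' (y * x)
    obtain ⟨d, hd, hdx⟩ := hcorner (u * x)
    refine ⟨a, ha, b, hb, c, hc, d, hd, ?_⟩
    have h12 : e * x * e' = c * u := by
      calc e * x * e' = (u * y) * x * e' := by rw [huy]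
        _ = (u * e') * (y * x) * e' := by rw [hue']; simp [mul_assoc]
        _ = u * (e' * (y * x) * e') := by simp [mul_assoc]
        _ = u * (c * e') := by rw [hcx]
        _ = c * u := by rw [mv hc, hue']
    have h21 : e' * x * e = d * y := by
      calc e' * x * e = (y * u) * x * e := by rw [hyu]
        _ = (y * e) * (u * x) * e := by rw [hye]; simp [mul_assoc]
        _ = y * (e * (u * x) * e) := by simp [mul_assoc]
        _ = y * (d * e) := by rw [hdx]
        _ = d * y := by rw [mv hd, hye]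
    rw [← hax, ← hbx, ← h12, ← h21]
    calc x = (e + e') * x * (e + e') := by rw [hsum, one_mul, mul_one]
      _ = e * x * e + e' * x * e' + e * x * e' + e' * x * e := by
        simp only [add_mul, mul_add]; abel
  have hinj : ∀ a ∈ Q.J, ∀ b ∈ Q.J, ∀ c ∈ Q.J, ∀ d ∈ Q.J,
      a * e + b * e' + c * u + d * y = 0 → a = 0 ∧ b = 0 ∧ c = 0 ∧ d = 0 := by
    intro a ha b hb c hc d hd h
    have key : ∀ p q : R, p * (a * e + b * e' + c * u + d * y) * q = 0 := fun p q => by
      rw [h, mul_zero, zero_mul]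
    refine ⟨cancel ha ?_, cancel hb ?_, cancel hc ?_, cancel hd ?_⟩
    · have := key e u
      simpa only [mul_add, add_mul, mul_assoc, mv ha, mv hb, mv hc, mv hd, hee, hee', hey, heu,
        he'e, he'u, huu, hyu, hue, mul_zero, zero_mul, add_zero, zero_add] using this
    · have := key u e'
      simpa only [mul_add, add_mul, mul_assoc, mv ha, mv hb, mv hc, mv hd, hue, hue', huy, huu,
        hee', he'e', hee, heu, he'u, hey, hye', mul_zero, zero_mul, add_zero, zero_add] using this
    · have := key e e'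
      simpa only [mul_add, add_mul, mul_assoc, mv ha, mv hb, mv hc, mv hd, hee', he'e', hue', hye',
        hee, heu, he'e, he'u, hey, mul_zero, zero_mul, add_zero, zero_add] using this
    · have := key u u
      simpa only [mul_add, add_mul, mul_assoc, mv ha, mv hb, mv hc, mv hd, heu, he'u, huu, hyu,
        hue', hue, huy, mul_zero, zero_mul, add_zero, zero_add] using this
  -- the automorphisms
  have hσ : ∀ b, ∃ γ ∈ Q.J, Q.s b e = e + γ * u ∧ Q.s b y = γ + γ * γ * u + y := by
    intro b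
    set f := Q.s b with hf
    obtain ⟨a, ha, b1, hb1, c, hc, d, hd, hρ⟩ := hrep (f e)
    have h1 : f e * u = u := by
      have := congrArg f heu
      rwa [map_mul, hus b] at this
    have h2 : u * f e = 0 := by
      have := congrArg f hue
      rwa [map_mul, hus b, map_zero] at this
    have h1' : a * u + d * e' = u := by
      rw [hρ] at h1
      simpa only [add_mul, mul_assoc, heu, he'u, huu, hyu, mul_zero, add_zero] using h1
    have h2' : b1 * u + d * e = 0 := by
      rw [hρ] at h2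
      simpa only [mul_add, mv ha, mv hb1, mv hc, mv hd, hue, hue', huu, huy, mul_zero, add_zero,
        zero_add] using h2
    obtain ⟨-, hd0, ha1, -⟩ := hinj 0 Q.J.zero_mem d hd (a + 1) (Q.J.add_mem ha Q.J_one) 0
      Q.J.zero_mem (by
        rw [zero_mul, zero_mul, zero_add, add_zero, add_mul, one_mul, ← add_assoc, add_comm (d * e'),
          h1', Q.two])
    obtain ⟨-, -, hb0, -⟩ := hinj d hd 0 Q.J.zero_mem b1 hb1 0
      Q.J.zero_mem (by rw [zero_mul, zero_mul, add_zero, add_zero, add_comm, h2'])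
    have ha1' : a = 1 := Q.eq_of_add ha1
    rw [ha1', hd0, hb0, one_mul, zero_mul, zero_mul, add_zero, add_zero] at hρ
    refine ⟨c, hc, hρ, ?_⟩
    obtain ⟨a2, ha2, b2, hb2, c2, hc2, d2, hd2, hη⟩ := hrep (f y)
    have h3 : b2 * u + d2 * e = e + c * u := by
      have := congrArg f huy
      rw [map_mul, hus b, hρ, hη] at this
      simpa only [mul_add, mv ha2, mv hb2, mv hc2, mv hd2, hue, hue', huu, huy, mul_zero, add_zero,
        zero_add] using this
    have h4 : a2 * u + d2 * e' = e' + c * u := by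
      have := congrArg f hyu
      rw [map_mul, hus b, he', map_add, map_one, hρ, ← add_assoc, ← he', hη] at this
      simpa only [add_mul, mul_assoc, heu, he'u, huu, hyu, mul_zero, add_zero] using this
    obtain ⟨hd21, -, hb2c, -⟩ := hinj (d2 + 1) (Q.J.add_mem hd2 Q.J_one) 0 Q.J.zero_mem (b2 + c)
      (Q.J.add_mem hb2 hc) 0 Q.J.zero_mem (by
        rw [zero_mul, zero_mul, add_zero, add_zero, add_mul, add_mul, one_mul,
          show d2 * e + e + (b2 * u + c * u) = b2 * u + d2 * e + (e + c * u) by abel, h3, Q.two])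
    obtain ⟨-, -, ha2c, -⟩ := hinj 0 Q.J.zero_mem (d2 + 1) (Q.J.add_mem hd2 Q.J_one) (a2 + c)
      (Q.J.add_mem ha2 hc) 0 Q.J.zero_mem (by
        rw [zero_mul, zero_mul, zero_add, add_zero, add_mul, add_mul, one_mul,
          show d2 * e' + e' + (a2 * u + c * u) = a2 * u + d2 * e' + (e' + c * u) by abel, h4, Q.two])
    have hd2' : d2 = 1 := Q.eq_of_add hd21
    have hb2' : b2 = c := Q.eq_of_add hb2c
    have ha2' : a2 = c := Q.eq_of_add ha2c
    rw [hd2', hb2', ha2', one_mul, ← mul_add, hsum, mul_one] at hη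
    have hsq : f y * f y = 0 := by rw [← map_mul, hyy, map_zero]
    have hη' : f y = c + c2 * u + y := hη
    have hc2' : c2 = c * c := by
      have : c * c + c2 = 0 := by
        have h5 := hsq
        rw [hη'] at h5
        have hcz : c * (c2 * u + y) = (c2 * u + y) * c := Q.J_central hc _
        have hzz : (c2 * u + y) * (c2 * u + y) = c2 := by
          simp only [add_mul, mul_add, mul_assoc, mv hc2, huu, huy, hyu, hyy, mul_zero, add_zero,
            zero_add]
          rw [← mul_add, add_comm e' e, hsum, mul_one]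
        rw [add_assoc c] at h5
        have e1 : (c + (c2 * u + y)) * (c + (c2 * u + y)) = c * c + c2 := by
          rw [add_mul, mul_add c, mul_add (c2 * u + y), hzz, hcz]
          calc _ = c * c + c2 + ((c2 * u + y) * c + (c2 * u + y) * c) := by abel
            _ = _ := by rw [Q.two, add_zero]
        rw [e1] at h5
        exact h5
      exact (Q.eq_of_add (by rw [add_comm]; exact this))
    rw [hη', hc2']
  choose γ hγ hγe hγy using hσ
  have hγe' : ∀ b, Q.s b e' = e' + γ b * u := fun b => by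
    rw [he', map_add, map_one, hγe, ← add_assoc]
  have hgen : ∀ b, ∀ a ∈ Q.J, ∀ b' ∈ Q.J, ∀ c ∈ Q.J, ∀ d ∈ Q.J,
      Q.s b (a * e + b' * e' + c * u + d * y) + (a * e + b' * e' + c * u + d * y) =
        d * γ b + ((a + b') * γ b + d * (γ b * γ b)) * u := by
    intro b a ha b' hb' c hc d hd
    simp only [map_add, map_mul, Q.J_fix ha, Q.J_fix hb', Q.J_fix hc, Q.J_fix hd, hγe, hγe', hus,
      hγy]
    simp only [mul_add, add_mul, mul_assoc]
    calc _ = d * γ b + (a * (γ b * u) + b' * (γ b * u) + d * (γ b * (γ b * u)))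
        + ((a * e + a * e) + (b' * e' + b' * e') + (c * u + c * u) + (d * y + d * y)) := by abel
      _ = _ := by simp only [Q.two, add_zero]
  refine ⟨?_, ?_, ?_⟩
  · -- at most `|J|` automorphisms
    let F : Set.range (fun b => (Q.s b : R → R)) → Q.J := fun f => ⟨γ f.2.choose, hγ _⟩
    refine Nat.card_le_card_of_injective F fun f g h => Subtype.ext ?_
    have hf := f.2.choose_spec
    have hg := g.2.choose_spec
    have hγ' : γ f.2.choose = γ g.2.choose := congrArg Subtype.val h
    rw [← hf, ← hg]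
    funext x
    obtain ⟨a, ha, b', hb', c, hc, d, hd, rfl⟩ := hrep x
    have h1 := hgen f.2.choose a ha b' hb' c hc d hd
    rw [hγ', ← hgen g.2.choose a ha b' hb' c hc d hd] at h1
    exact add_right_cancel h1
  · by_cases htriv : ∀ b x, Q.s b x = x
    · exact Or.inl htriv
    right
    push Not at htriv
    obtain ⟨b, x, hbx⟩ := htriv
    have hγ0 : γ b ≠ 0 := by
      intro h0
      apply hbx
      obtain ⟨a, ha, b', hb', c, hc, d, hd, rfl⟩ := hrep x
      apply Q.eq_of_add
      rw [hgen b a ha b' hb' c hc d hd, h0]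
      simp
    obtain ⟨v, hv⟩ := Q.J_isUnit (hγ b) hγ0
    have hfix : Nat.card {x : R // ∀ b, Q.s b x = x} ≤ Nat.card Q.J * Nat.card Q.J := by
      rw [← Nat.card_prod]
      refine Nat.card_le_card_of_surjective
        (fun p : Q.J × Q.J => (⟨(p.1 : R) + (p.2 : R) * u, fun b => by
          rw [map_add, map_mul, Q.J_fix p.1.2, Q.J_fix p.2.2, hus]⟩ :
          {x : R // ∀ b, Q.s b x = x})) ?_
      rintro ⟨x, hx⟩
      obtain ⟨a, ha, b', hb', c, hc, d, hd, rfl⟩ := hrep x
      have h1 := hgen b a ha b' hb' c hc d hd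
      rw [hx b, Q.two] at h1
      have hgd : d * γ b ∈ Q.J := Q.J_mul hd (hγ b)
      have hmu : (a + b') * γ b + d * (γ b * γ b) ∈ Q.J :=
        Q.J.add_mem (Q.J_mul (Q.J.add_mem ha hb') (hγ b)) (Q.J_mul hd (Q.J_mul (hγ b) (hγ b)))
      obtain ⟨hd0, -, hmu0, -⟩ := hinj _ hgd _ hgd _ hmu 0 Q.J.zero_mem (by
        rw [zero_mul, add_zero, ← mul_add, hsum, mul_one]; exact h1.symm)
      rw [← hv, Units.mul_left_eq_zero] at hd0
      rw [hd0, zero_mul, add_zero, ← hv, Units.mul_left_eq_zero] at hmu0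
      have hab : a = b' := Q.eq_of_add hmu0
      refine ⟨(⟨b', hb'⟩, ⟨c, hc⟩), Subtype.ext ?_⟩
      show b' + c * u = a * e + b' * e' + c * u + d * y
      rw [hab, hd0, zero_mul, add_zero, ← mul_add, hsum, mul_one]
    refine le_trans (Nat.mul_le_mul_left _ hfix) ?_
    rw [← Nat.card_prod, ← Nat.card_prod]
    refine Nat.card_le_card_of_injective
      (fun p : (Q.J × Q.J) × (Q.J × Q.J) =>
        (p.1.1 : R) * e + (p.1.2 : R) * e' + (p.2.1 : R) * u + (p.2.2 : R) * y) ?_
    intro p p' h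
    have h0 : ((p.1.1 : R) + p'.1.1) * e + ((p.1.2 : R) + p'.1.2) * e' + ((p.2.1 : R) + p'.2.1) * u
        + ((p.2.2 : R) + p'.2.2) * y = 0 := by
      simp only [add_mul]
      calc _ = ((p.1.1 : R) * e + (p.1.2 : R) * e' + (p.2.1 : R) * u + (p.2.2 : R) * y)
          + ((p'.1.1 : R) * e + (p'.1.2 : R) * e' + (p'.2.1 : R) * u + (p'.2.2 : R) * y) := by abel
        _ = 0 := by simp only [] at h; rw [h, Q.two]
    obtain ⟨h1, h2, h3, h4⟩ := hinj _ (Q.J.add_mem p.1.1.2 p'.1.1.2) _
      (Q.J.add_mem p.1.2.2 p'.1.2.2) _ (Q.J.add_mem p.2.1.2 p'.2.1.2) _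
      (Q.J.add_mem p.2.2.2 p'.2.2.2) h0
    exact Prod.ext (Prod.ext (Subtype.ext (Q.eq_of_add h1)) (Subtype.ext (Q.eq_of_add h2)))
      (Prod.ext (Subtype.ext (Q.eq_of_add h3)) (Subtype.ext (Q.eq_of_add h4)))
  · intro b x hcomm z
    obtain ⟨a, ha, b', hb', c, hc, d, hd, rfl⟩ := hrep x
    have h1 := hgen b a ha b' hb' c hc d hd
    obtain ⟨X, hX⟩ : ∃ X, X = a * e + b' * e' + c * u + d * y := ⟨_, rfl⟩
    rw [← hX] at h1 hcomm ⊢
    rw [h1]
    obtain ⟨μ, hμ⟩ : ∃ μ, μ = (a + b') * γ b + d * (γ b * γ b) := ⟨_, rfl⟩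
    rw [← hμ] at h1 ⊢
    have hμJ : μ ∈ Q.J :=
      hμ ▸ Q.J.add_mem (Q.J_mul (Q.J.add_mem ha hb') (hγ b)) (Q.J_mul hd (Q.J_mul (hγ b) (hγ b)))
    have hgd : d * γ b ∈ Q.J := Q.J_mul hd (hγ b)
    suffices μ = 0 by rw [this, zero_mul, add_zero]; exact Q.J_central hgd z
    have hc1 : X * (d * γ b + μ * u) = (d * γ b + μ * u) * X := by
      rw [← h1, mul_add, add_mul, hcomm]
    rw [mul_add, add_mul, Q.J_central hgd X] at hc1
    have hc2 : X * (μ * u) = μ * u * X := add_left_cancel hc1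
    have hXu : X * u = a * u + d * e' := by
      rw [hX]
      simp only [add_mul, mul_assoc, heu, he'u, huu, hyu, mul_zero, add_zero]
    have huX : u * X = b' * u + d * e := by
      rw [hX]
      simp only [mul_add, mv ha, mv hb', mv hc, mv hd, hue, hue', huu, huy, mul_zero, zero_add,
        add_zero]
    rw [mv hμJ X u, mul_assoc μ u X, hXu, huX, mul_add, mul_add] at hc2
    -- `μ a u + μ d e' = μ b' u + μ d e`
    obtain ⟨hd0, -, hab0, -⟩ := hinj (μ * d) (Q.J_mul hμJ hd) (μ * d) (Q.J_mul hμJ hd)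
      (μ * (a + b')) (Q.J_mul hμJ (Q.J.add_mem ha hb')) 0 Q.J.zero_mem (by
        simp only [mul_add, add_mul, mul_assoc, zero_mul, add_zero]
        calc _ = (μ * (a * u) + μ * (d * e')) + (μ * (b' * u) + μ * (d * e)) := by abel
          _ = 0 := by rw [hc2, Q.two])
    by_contra hne
    obtain ⟨v, hv⟩ := Q.J_isUnit hμJ hne
    rw [← hv, Units.mul_right_eq_zero] at hd0 hab0
    apply hne
    rw [hμ, hab0, hd0, zero_mul, zero_mul, add_zero]

end QuadData

end Cfsg.Lib.Components.Timmesfeld
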