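import Cfsg.Agent.Components.Timmesfeld.Bridge
import Cfsg.Agent.Chars.Burnside
import Mathlib

/-!
Tools for the action of a perfect group with no large normal subgroups on a finite abelian group.
-/

namespace Cfsg.Lib.Components.Timmesfeld

open Subgroup
open scoped commutatorElement

universe u v

variable {G : Type u} [Group G]

/-- perfect, and every proper normal subgroup is central -/
structure Good (K : Subgroup G) : Prop where
  perf : ⁅K, K⁆ = K
  max : ∀ N : Subgroup G, N ≤ K → (∀ x ∈ K, ∀ z ∈ N, x * z * x⁻¹ ∈ N) →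
    K ≤ N ∨ ∀ z ∈ N, ∀ x ∈ K, z * x = x * z

theorem Good.subgroupOf {K : Subgroup G} (hK : Good K) {H : Subgroup G} (hle : K ≤ H) :
    Good (K.subgroupOf H) := by
  constructor
  · apply Subgroup.map_injective H.subtype_injective
    rw [map_commutator, map_subgroupOf_eq_of_le hle, hK.perf]
  · intro N hN hconj
    have h1 : N.map H.subtype ≤ K := by
      rintro _ ⟨z, hz, rfl⟩
      exact hN hz
    rcases hK.max (N.map H.subtype) h1 (by
      rintro x hx _ ⟨z, hz, rfl⟩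
      exact ⟨⟨x, hle hx⟩ * z * ⟨x, hle hx⟩⁻¹, hconj ⟨x, hle hx⟩ hx z hz, rfl⟩) with h | h
    · left
      intro x hx
      obtain ⟨z, hz, e⟩ := h hx
      rwa [← Subtype.ext (e : (z : G) = x)]
    · right
      intro z hz x hx
      exact Subtype.ext (h z ⟨z, hz, rfl⟩ x hx)

/-- `b` normalises `K` without centralising it: the commutators with `b` generate `K` -/
theorem Good.gen_of_moved {K : Subgroup G} (hK : Good K) {b : G}
    (hb : ∀ k ∈ K, b * k * b⁻¹ ∈ K) (hne : ∃ k ∈ K, b * k * b⁻¹ ≠ k) :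
    K ≤ closure {z | ∃ k ∈ K, z = k⁻¹ * (b * k * b⁻¹)} := by
  set N := closure {z | ∃ k ∈ K, z = k⁻¹ * (b * k * b⁻¹)} with hN
  have hNK : N ≤ K := (closure_le _).2 (by
    rintro _ ⟨k, hk, rfl⟩; exact K.mul_mem (K.inv_mem hk) (hb k hk))
  have hconj : ∀ x ∈ K, ∀ z ∈ N, x * z * x⁻¹ ∈ N := by
    intro x hx z hz
    induction hz using closure_induction with
    | mem z hz =>
      obtain ⟨k, hk, rfl⟩ := hz
      have e : x * (k⁻¹ * (b * k * b⁻¹)) * x⁻¹ =
          (k * x⁻¹)⁻¹ * (b * (k * x⁻¹) * b⁻¹) * ((x⁻¹)⁻¹ * (b * x⁻¹ * b⁻¹))⁻¹ := by group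
      rw [e]
      exact N.mul_mem (subset_closure ⟨_, K.mul_mem hk (K.inv_mem hx), rfl⟩)
        (N.inv_mem (subset_closure ⟨_, K.inv_mem hx, rfl⟩))
    | one => simp
    | mul a c _ _ iha ihc =>
      have e : x * (a * c) * x⁻¹ = x * a * x⁻¹ * (x * c * x⁻¹) := by group
      rw [e]; exact N.mul_mem iha ihc
    | inv a _ iha =>
      have e : x * a⁻¹ * x⁻¹ = (x * a * x⁻¹)⁻¹ := by group
      rw [e]; exact N.inv_mem iha
  rcases hK.max N hNK hconj with h | h
  · exact h
  exfalso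
  obtain ⟨k, hk, hkb⟩ := hne
  apply hkb
  let T : Subgroup G :=
    { carrier := {g | b * g * b⁻¹ = g}
      one_mem' := by simp
      mul_mem' := fun {x y} (hx : b * x * b⁻¹ = x) (hy : b * y * b⁻¹ = y) => by
        show b * (x * y) * b⁻¹ = x * y
        rw [show b * (x * y) * b⁻¹ = b * x * b⁻¹ * (b * y * b⁻¹) by group, hx, hy]
      inv_mem' := fun {x} (hx : b * x * b⁻¹ = x) => by
        show b * x⁻¹ * b⁻¹ = x⁻¹
        rw [show b * x⁻¹ * b⁻¹ = (b * x * b⁻¹)⁻¹ by group, hx] }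
  suffices K ≤ T from this hk
  conv_lhs => rw [← hK.perf]
  rw [commutator_le]
  intro x hx y hy
  show b * ⁅x, y⁆ * b⁻¹ = ⁅x, y⁆
  have hzx := h (x⁻¹ * (b * x * b⁻¹)) (subset_closure ⟨x, hx, rfl⟩)
  have hzy := h (y⁻¹ * (b * y * b⁻¹)) (subset_closure ⟨y, hy, rfl⟩)
  set zx := x⁻¹ * (b * x * b⁻¹) with hzxd
  set zy := y⁻¹ * (b * y * b⁻¹) with hzyd
  have e1 : b * x * b⁻¹ = x * zx := by rw [hzxd]; group
  have e2 : b * y * b⁻¹ = y * zy := by rw [hzyd]; group
  have hzyK : zy ∈ K := hNK (subset_closure ⟨y, hy, hzyd⟩)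
  rw [commutatorElement_def, show b * (x * y * x⁻¹ * y⁻¹) * b⁻¹ =
    (b * x * b⁻¹) * (b * y * b⁻¹) * (b * x * b⁻¹)⁻¹ * (b * y * b⁻¹)⁻¹ by group, e1, e2]
  calc x * zx * (y * zy) * (x * zx)⁻¹ * (y * zy)⁻¹
      = x * (zx * (y * zy)) * zx⁻¹ * x⁻¹ * zy⁻¹ * y⁻¹ := by group
    _ = x * ((y * zy) * zx) * zx⁻¹ * x⁻¹ * zy⁻¹ * y⁻¹ := by
        rw [hzx _ (K.mul_mem hy hzyK)]
    _ = x * y * (zy * x⁻¹) * zy⁻¹ * y⁻¹ := by group
    _ = x * y * (x⁻¹ * zy) * zy⁻¹ * y⁻¹ := by rw [hzy _ (K.inv_mem hx)]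
    _ = x * y * x⁻¹ * y⁻¹ := by group

variable [Finite G] {V : Type v} [AddCommGroup V] [Finite V] (φ : G →* AddMonoid.End V)

/-- abelian action modulo an invariant subgroup is trivial action -/
theorem trivial_mod {K : Subgroup G} (hK : ⁅K, K⁆ = K) (U W : AddSubgroup V)
    (hU : ∀ k ∈ K, ∀ v ∈ U, φ k v ∈ U) (hW : ∀ k ∈ K, ∀ v ∈ W, φ k v ∈ W)
    (h : ∀ x ∈ K, ∀ y ∈ K, ∀ v ∈ U, φ (x * y) v - φ (y * x) v ∈ W) :
    ∀ k ∈ K, ∀ v ∈ U, φ k v - v ∈ W := by
  let T : Subgroup G :=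
    { carrier := {g | g ∈ K ∧ ∀ v ∈ U, φ g v - v ∈ W}
      one_mem' := ⟨K.one_mem, fun v _ => by rw [phi_one, sub_self]; exact W.zero_mem⟩
      mul_mem' := fun {x y} hx hy => ⟨K.mul_mem hx.1 hy.1, fun v hv => by
        have e : φ (x * y) v - v = φ x (φ y v - v) + (φ x v - v) := by
          rw [phi_mul, map_sub]; abel
        rw [e]
        exact W.add_mem (hW x hx.1 _ (hy.2 v hv)) (hx.2 v hv)⟩
      inv_mem' := fun {x} hx => ⟨K.inv_mem hx.1, fun v hv => by
        have e : φ x⁻¹ v - v = - φ x⁻¹ (φ x v - v) := by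
          rw [map_sub, phi_inv_apply]; abel
        rw [e]
        exact W.neg_mem (hW _ (K.inv_mem hx.1) _ (hx.2 v hv))⟩ }
  have hle : K ≤ T := by
    conv_lhs => rw [← hK]
    rw [commutator_le]
    intro x hx y hy
    refine ⟨by rw [← hK]; exact commutator_mem_commutator hx hy, fun v hv => ?_⟩
    have h1 := h x hx y hy (φ (y * x)⁻¹ v) (hU _ (K.inv_mem (K.mul_mem hy hx)) v hv)
    rw [← phi_mul, ← phi_mul φ (y * x), mul_inv_cancel, phi_one] at h1
    have e : ⁅x, y⁆ = x * y * (y * x)⁻¹ := by rw [commutatorElement_def]; group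
    rw [e]; exact h1
  exact fun k hk => (hle hk).2

theorem trivial_of_commute {K : Subgroup G} (hK : ⁅K, K⁆ = K)
    (h : ∀ x ∈ K, ∀ y ∈ K, φ x * φ y = φ y * φ x) : ∀ k ∈ K, φ k = 1 := by
  intro k hk
  refine AddMonoidHom.ext fun v => ?_
  have := trivial_mod φ hK ⊤ ⊥ (fun _ _ _ _ => AddSubgroup.mem_top _)
    (fun k _ v hv => by rw [AddSubgroup.mem_bot] at hv ⊢; rw [hv, map_zero])
    (fun x hx y hy v _ => by rw [AddSubgroup.mem_bot, map_mul, map_mul, h x hx y hy, sub_self]) k hk v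
    (AddSubgroup.mem_top v)
  rw [AddSubgroup.mem_bot, sub_eq_zero] at this
  exact this

theorem trivial_of_series {K : Subgroup G} (hK : ⁅K, K⁆ = K) (U W : AddSubgroup V)
    (hU : ∀ k ∈ K, ∀ v ∈ U, φ k v ∈ U) (h1 : ∀ k ∈ K, ∀ w ∈ W, φ k w = w)
    (h2 : ∀ k ∈ K, ∀ v ∈ U, φ k v - v ∈ W) : ∀ k ∈ K, ∀ v ∈ U, φ k v = v := by
  intro k hk v hv
  have := trivial_mod φ hK U ⊥ hU (fun k _ v hv => by rw [AddSubgroup.mem_bot] at hv ⊢; rw [hv, map_zero])
    (fun x hx y hy v hv => by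
      rw [AddSubgroup.mem_bot, sub_eq_zero, phi_mul, phi_mul]
      have ex : φ x v = v + (φ x v - v) := by abel
      have ey : φ y v = v + (φ y v - v) := by abel
      rw [ey, map_add, h1 x hx _ (h2 y hy v hv), ex, map_add, h1 y hy _ (h2 x hx v hv)]
      abel) k hk v hv
  rwa [AddSubgroup.mem_bot, sub_eq_zero] at this

/-- an element acting like the identity on `K` -/
theorem trivial_of_moved {K : Subgroup G} (hK : Good K) {b : G} (hb : ∀ k ∈ K, b * k * b⁻¹ ∈ K)
    (hne : ∃ k ∈ K, b * k * b⁻¹ ≠ k) (h : ∀ k ∈ K, φ (b * k * b⁻¹) = φ k) : ∀ k ∈ K, φ k = 1 := by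
  intro k hk
  suffices ∀ z ∈ closure {z | ∃ k ∈ K, z = k⁻¹ * (b * k * b⁻¹)}, φ z = 1 from
    this k (hK.gen_of_moved hb hne hk)
  intro z hz
  induction hz using closure_induction with
  | mem z hz =>
    obtain ⟨m, hm, rfl⟩ := hz
    rw [map_mul, h m hm, ← map_mul, inv_mul_cancel, map_one]
  | one => exact map_one φ
  | mul x y _ _ hx hy => rw [map_mul, hx, hy, mul_one]
  | inv x _ hx =>
    calc φ x⁻¹ = φ x⁻¹ * φ x := by rw [hx, mul_one]
      _ = 1 := by rw [← map_mul, inv_mul_cancel, map_one]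

/-! ### restriction and quotient -/

/-- the action on an invariant subgroup -/
def res (H : Subgroup G) (U : AddSubgroup V) (hU : ∀ g ∈ H, ∀ v ∈ U, φ g v ∈ U) :
    ↥H →* AddMonoid.End ↥U where
  toFun g := { toFun := fun w => ⟨φ g w, hU g g.2 w w.2⟩
               map_zero' := Subtype.ext (map_zero (φ (g : G)))
               map_add' := fun x y => Subtype.ext (map_add (φ (g : G)) x.1 y.1) }
  map_one' := AddMonoidHom.ext fun w => Subtype.ext (by show φ (1 : G) _ = _; rw [phi_one]; rfl)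
  map_mul' g h := AddMonoidHom.ext fun w => Subtype.ext (phi_mul φ g h w)

theorem res_apply (H : Subgroup G) (U : AddSubgroup V) (hU : ∀ g ∈ H, ∀ v ∈ U, φ g v ∈ U)
    (g : ↥H) (w : ↥U) : ((res φ H U hU g w : ↥U) : V) = φ (g : G) w.1 := rfl

/-- the action on an invariant subgroup of the whole group -/
def sub (W : AddSubgroup V) (hW : ∀ g, ∀ v ∈ W, φ g v ∈ W) : G →* AddMonoid.End ↥W where
  toFun g := { toFun := fun w => ⟨φ g w, hW g w w.2⟩
               map_zero' := Subtype.ext (map_zero (φ g))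
               map_add' := fun x y => Subtype.ext (map_add (φ g) x.1 y.1) }
  map_one' := AddMonoidHom.ext fun w => Subtype.ext (phi_one φ w)
  map_mul' g h := AddMonoidHom.ext fun w => Subtype.ext (phi_mul φ g h w)

/-- the action on the quotient by an invariant subgroup -/
def quo (W : AddSubgroup V) (hW : ∀ g, ∀ v ∈ W, φ g v ∈ W) : G →* AddMonoid.End (V ⧸ W) where
  toFun g := QuotientAddGroup.map W W (show V →+ V from φ g) fun v hv => hW g v hv
  map_one' := AddMonoidHom.ext fun x => by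
    induction x using QuotientAddGroup.induction_on with
    | H v => show ((φ 1 v : V) : V ⧸ W) = v; rw [phi_one]
  map_mul' g h := AddMonoidHom.ext fun x => by
    induction x using QuotientAddGroup.induction_on with
    | H v => show ((φ (g * h) v : V) : V ⧸ W) = (φ g (φ h v) : V); rw [phi_mul]

theorem sub_apply (W : AddSubgroup V) (hW : ∀ g, ∀ v ∈ W, φ g v ∈ W) (g : G) (w : ↥W) :
    ((sub φ W hW g w : ↥W) : V) = φ g w.1 := rfl

theorem quo_apply (W : AddSubgroup V) (hW : ∀ g, ∀ v ∈ W, φ g v ∈ W) (g : G) (v : V) :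
    quo φ W hW g (v : V ⧸ W) = ((φ g v : V) : V ⧸ W) := rfl

/-- reduction to actions without invariant subgroups -/
theorem of_irreducible {K : Subgroup G} (hK : ⁅K, K⁆ = K)
    (P : ∀ (V : Type v) [AddCommGroup V] [Finite V], (G →* AddMonoid.End V) → Prop)
    (hsub : ∀ (V : Type v) [AddCommGroup V] [Finite V] (φ : G →* AddMonoid.End V) (W : AddSubgroup V)
      (hW : ∀ g, ∀ v ∈ W, φ g v ∈ W), P V φ → P ↥W (sub φ W hW))
    (hquo : ∀ (V : Type v) [AddCommGroup V] [Finite V] (φ : G →* AddMonoid.End V) (W : AddSubgroup V)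
      (hW : ∀ g, ∀ v ∈ W, φ g v ∈ W), P V φ → P (V ⧸ W) (quo φ W hW))
    (hirr : ∀ (V : Type v) [AddCommGroup V] [Finite V] (φ : G →* AddMonoid.End V), P V φ →
      (∀ W : AddSubgroup V, (∀ g, ∀ v ∈ W, φ g v ∈ W) → (∃ v ∈ W, v ≠ 0) → W = ⊤) →
      ∀ k ∈ K, φ k = 1) (h : P V φ) : ∀ k ∈ K, φ k = 1 := by
  suffices key : ∀ (n : ℕ) (V : Type v) [AddCommGroup V] [Finite V] (φ : G →* AddMonoid.End V),
      Nat.card V = n → P V φ → ∀ k ∈ K, φ k = 1 from key _ V φ rfl h
  clear! V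
  intro n
  induction n using Nat.strong_induction_on with
  | _ n ih =>
    intro V _ _ φ hn h
    by_cases hi : ∀ W : AddSubgroup V, (∀ g, ∀ v ∈ W, φ g v ∈ W) → (∃ v ∈ W, v ≠ 0) → W = ⊤
    · exact hirr V φ h hi
    push Not at hi
    obtain ⟨W, hW, ⟨w, hw, hw0⟩, hWt⟩ := hi
    have h1 : Nat.card ↥W < n := by
      rw [← hn]
      refine lt_of_le_of_ne (Nat.card_le_card_of_injective _ W.subtype_injective) fun e => hWt ?_
      exact AddSubgroup.eq_top_of_card_eq W e
    have h2 : Nat.card (V ⧸ W) < n := by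
      rw [← hn, AddSubgroup.card_eq_card_quotient_mul_card_addSubgroup W]
      refine lt_mul_of_one_lt_right Nat.card_pos ?_
      haveI : Nontrivial ↥W := ⟨⟨⟨w, hw⟩, 0, fun e => hw0 (congrArg Subtype.val e)⟩⟩
      exact Finite.one_lt_card
    have t1 := ih _ h1 ↥W (sub φ W hW) rfl (hsub V φ W hW h)
    have t2 := ih _ h2 (V ⧸ W) (quo φ W hW) rfl (hquo V φ W hW h)
    intro k hk
    refine AddMonoidHom.ext fun v => ?_
    refine trivial_of_series φ hK ⊤ W (fun _ _ _ _ => AddSubgroup.mem_top _) ?_ ?_ k hk v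
      (AddSubgroup.mem_top v)
    · intro k hk w hw
      exact congrArg (fun f : AddMonoid.End ↥W => ((f ⟨w, hw⟩ : ↥W) : V)) (t1 k hk)
    · intro k hk v _
      have := congrArg (fun f : AddMonoid.End (V ⧸ W) => f (v : V ⧸ W)) (t2 k hk)
      simp only [quo_apply] at this
      exact QuotientAddGroup.eq_iff_sub_mem.1 this

/-- all orders at most three -/
theorem trivial_of_small_orders {K : Subgroup G} (hK : ⁅K, K⁆ = K)
    (h : ∀ k ∈ K, φ k * φ k = 1 ∨ φ k * φ k * φ k = 1) : ∀ k ∈ K, φ k = 1 := by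
  let θ : ↥K →* (AddMonoid.End V)ˣ := (φ.comp K.subtype).toHomUnits
  haveI : Finite (AddMonoid.End V) := Finite.of_injective (fun f : AddMonoid.End V => (f : V → V)) DFunLike.coe_injective
  have hp : Group.IsPerfect ↥K := Subgroup.isPerfect_iff.2 hK
  haveI : Group.IsPerfect θ.range := Group.IsPerfect.ofSurjective θ.rangeRestrict_surjective
  have hord : ∀ x : θ.range, x ^ 2 = 1 ∨ x ^ 3 = 1 := by
    rintro ⟨_, k, rfl⟩
    rcases h k k.2 with h | h
    · left; apply Subtype.ext; apply Units.ext; simp only [pow_two]; exact h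
    · right; apply Subtype.ext; apply Units.ext; simp only [pow_succ, pow_zero, one_mul]; exact h
  have hcard : ∃ a b, Nat.card θ.range = 2 ^ a * 3 ^ b := by
    set N := Nat.card θ.range with hN
    refine ⟨N.factorization 2, N.factorization 3, ?_⟩
    have hsupp : N.primeFactors ⊆ ({2, 3} : Finset ℕ) := by
      intro q hq
      haveI : Fact q.Prime := ⟨Nat.prime_of_mem_primeFactors hq⟩
      obtain ⟨x, hx⟩ := exists_prime_orderOf_dvd_card' (G := θ.range) q (Nat.dvd_of_mem_primeFactors hq)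
      rcases hord x with h | h
      · have := orderOf_dvd_of_pow_eq_one h
        rw [hx] at this
        simp [(Nat.prime_dvd_prime_iff_eq Fact.out Nat.prime_two).1 this]
      · have := orderOf_dvd_of_pow_eq_one h
        rw [hx] at this
        simp [(Nat.prime_dvd_prime_iff_eq Fact.out Nat.prime_three).1 this]
    conv_lhs => rw [← Nat.prod_factorization_pow_eq_self (show N ≠ 0 from (Nat.card_pos (α := θ.range)).ne')]
    rw [Finsupp.prod, Nat.support_factorization,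
      Finset.prod_subset hsupp (f := fun q => q ^ N.factorization q) (fun x _ hx => by
        rw [Finsupp.notMem_support_iff.1 (by rwa [Nat.support_factorization]), pow_zero]),
      Finset.prod_pair (by norm_num)]
  have hsolv := Cfsg.Lib.Chars.burnside_isSolvable 2 3 Nat.prime_two Nat.prime_three ↥θ.range hcard
  intro k hk
  by_contra hne
  haveI : Nontrivial θ.range := by
    refine ⟨⟨⟨θ ⟨k, hk⟩, ⟨_, rfl⟩⟩, 1, fun e => hne ?_⟩⟩
    exact congrArg (fun z : θ.range => ((z : (AddMonoid.End V)ˣ) : AddMonoid.End V)) e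
  exact Group.IsPerfect.not_isSolvable θ.range hsolv

end Cfsg.Lib.Components.Timmesfeld
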